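import Groth.Agent.Lib.SmoothLiftH7.IdemFree
import Mathlib.RingTheory.AdjoinRoot
import Mathlib.RingTheory.IntegralClosure.Algebra.Basic
import Mathlib.LinearAlgebra.Matrix.Charpoly.LinearMap
import Mathlib.RingTheory.Idempotents
import Mathlib.LinearAlgebra.StdBasis
import Mathlib.RingTheory.Polynomial.Basic

/-!
# Lifting units and idempotents étale locally
-/

set_option autoImplicit false
set_option linter.style.haveILetI false
universe u

open Polynomial TensorProduct

namespace Groth.Agent.SmoothLiftH7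

theorem bijective_quotientMap {A C : Type u} [CommRing A] [CommRing C] [Algebra A C] (I : Ideal A)
    (φ : C →ₐ[A] A ⧸ I) (hker : RingHom.ker φ = I.map (algebraMap A C)) :
    Function.Bijective (Ideal.quotientMap (I.map (algebraMap A C)) (algebraMap A C) Ideal.le_comap_map) := by
  refine ⟨(injective_iff_map_eq_zero _).2 fun z hz => ?_, fun z => ?_⟩
  · obtain ⟨r, rfl⟩ := Ideal.Quotient.mk_surjective z
    rw [Ideal.quotientMap_mk, Ideal.Quotient.eq_zero_iff_mem, ← hker, RingHom.mem_ker, AlgHom.commutes] at hz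
    exact hz
  · obtain ⟨c, rfl⟩ := Ideal.Quotient.mk_surjective z
    obtain ⟨r, hr⟩ := Ideal.Quotient.mk_surjective (φ c)
    refine ⟨Ideal.Quotient.mk I r, ?_⟩
    rw [Ideal.quotientMap_mk, Ideal.Quotient.eq, ← hker, RingHom.mem_ker, map_sub, AlgHom.commutes,
      Ideal.Quotient.algebraMap_eq, hr, sub_self]

theorem exists_etale_lift_unit (A : Type u) [CommRing A] (I : Ideal A) (u : (A ⧸ I)ˣ) :
    ∃ (A' : Type u) (_ : CommRing A') (_ : Algebra A A'), Algebra.Etale A A' ∧
      Function.Bijective (Ideal.quotientMap (Ideal.map (algebraMap A A') I) (algebraMap A A')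
        Ideal.le_comap_map) ∧
      ∃ u' : A'ˣ, Ideal.Quotient.mk (Ideal.map (algebraMap A A') I) (u' : A') =
        Ideal.quotientMap (Ideal.map (algebraMap A A') I) (algebraMap A A') Ideal.le_comap_map
          (u : A ⧸ I) := by
  obtain ⟨a, ha⟩ := Ideal.Quotient.mk_surjective (u : A ⧸ I)
  obtain ⟨φ, -, -, hker⟩ := exists_away_lift (Ideal.Quotient.mkₐ A I) (Ideal.Quotient.mkₐ_surjective A I) I
    (fun x hx => Ideal.Quotient.eq_zero_iff_mem.2 hx) a
    (by rw [Ideal.Quotient.mkₐ_eq_mk, ha]; exact u.isUnit)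
    (fun x hx => ⟨0, by rw [pow_zero, one_mul]; exact Ideal.Quotient.eq_zero_iff_mem.1 hx⟩)
  refine ⟨Localization.Away a, inferInstance, inferInstance, Algebra.Etale.of_isLocalizationAway a,
    bijective_quotientMap I φ hker, (IsLocalization.Away.algebraMap_isUnit (S := Localization.Away a) a).unit, ?_⟩
  rw [IsUnit.unit_spec, ← ha, Ideal.quotientMap_mk]

theorem exists_monic_annihilator {A B : Type u} [CommRing A] [CommRing B] [Algebra A B]
    [Algebra.IsIntegral A B] (I : Ideal A) (b : B)
    (hb : IsIdempotentElem (Ideal.Quotient.mk (I.map (algebraMap A B)) b)) :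
    ∃ (f : A[X]) (d : ℕ), f.Monic ∧ 1 ≤ d ∧ aeval b f = 0 ∧
      f.map (Ideal.Quotient.mk I) = X ^ d * (X - 1) ^ d := by
  classical
  cases subsingleton_or_nontrivial A with
  | inl hA =>
    haveI : Subsingleton B := Module.subsingleton A B
    exact ⟨1, 1, monic_one, le_rfl, Subsingleton.elim _ _, Subsingleton.elim _ _⟩
  | inr hA =>
  have hz : b * b - b ∈ I.map (algebraMap A B) := by
    rw [← Ideal.Quotient.eq, map_mul]; exact hb
  obtain ⟨k, c, v, hv, e⟩ : ∃ (k : ℕ) (c : Fin k → B) (v : Fin k → A), (∀ i, v i ∈ I) ∧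
      b * b - b = ∑ i, c i * algebraMap A B (v i) := by
    rw [Ideal.map] at hz
    obtain ⟨k, c, g, hg⟩ := Submodule.mem_span_set'.1 hz
    have hg' : ∀ i, ∃ r ∈ I, algebraMap A B r = g i := fun i => (g i).2
    choose v hv hv' using hg'
    exact ⟨k, c, v, hv, by rw [← hg]; exact Finset.sum_congr rfl fun i _ => by rw [hv', smul_eq_mul]⟩
  let S : Subalgebra A B := Algebra.adjoin A (insert b (Set.range c))
  haveI : Module.Finite A S := Module.Finite.iff_fg.2
    (fg_adjoin_of_finite ((Set.finite_range c).insert b) fun x _ => Algebra.IsIntegral.isIntegral x)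
  let z : S := ⟨b, Algebra.subset_adjoin (Set.mem_insert _ _)⟩
  let L : Module.End A S := LinearMap.mulLeft A (z * z - z)
  have hL : LinearMap.range L ≤ I • (⊤ : Submodule A S) := by
    rintro _ ⟨x, rfl⟩
    have e' : (z * z - z) * x =
        ∑ i, v i • ((⟨c i, Algebra.subset_adjoin (Set.mem_insert_of_mem _ ⟨i, rfl⟩)⟩ : S) * x) := by
      apply Subtype.ext
      simp only [Subalgebra.coe_mul, AddSubgroupClass.coe_sub, AddSubmonoidClass.coe_finsetSum, SetLike.val_smul]
      show (b * b - b) * (x : B) = _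
      rw [e, Finset.sum_mul]
      exact Finset.sum_congr rfl fun i _ => by rw [Algebra.smul_def]; ring
    show (z * z - z) * x ∈ _
    rw [e']
    exact Submodule.sum_mem _ fun i _ => Submodule.smul_mem_smul (hv i) Submodule.mem_top
  obtain ⟨p, hp, hdeg, hcoeff, hp0⟩ :=
    LinearMap.exists_monic_and_natDegree_eq_and_coeff_mem_pow_and_aeval_eq_zero A L I hL
  let q : A[X] := X ^ 2 - X
  have hqdeg : q.natDegree = 2 := by
    rw [show q = X ^ 2 - X from rfl, natDegree_sub_eq_left_of_natDegree_lt] <;> simp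
  have hq : q.Monic := monic_X_pow_sub (by simp)
  refine ⟨p.comp q * q, p.natDegree + 1, (hp.comp hq (by omega)).mul hq, Nat.le_add_left _ _, ?_, ?_⟩
  · have h0 : aeval (z * z - z) p = 0 := by
      have := congrArg (fun f : Module.End A S => f 1) hp0
      simp only [L, LinearMap.zero_apply] at this
      rw [← this, show LinearMap.mulLeft A (z * z - z) = Algebra.lmul A S (z * z - z) from rfl,
        aeval_algHom_apply, Algebra.lmul, AlgHom.coe_mk]
      exact (mul_one _).symm
    have h1 : aeval (b * b - b) p = 0 := by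
      have := congrArg S.val h0
      rw [map_zero, ← aeval_algHom_apply] at this
      exact this
    rw [map_mul, aeval_comp, show aeval b q = b * b - b by simp [q, sq], h1, zero_mul]
  · have hmap : p.map (Ideal.Quotient.mk I) = X ^ p.natDegree := by
      ext i
      rw [coeff_map, coeff_X_pow]
      rcases lt_trichotomy i p.natDegree with hi | rfl | hi
      · rw [if_neg hi.ne, Ideal.Quotient.eq_zero_iff_mem]
        exact Ideal.pow_le_self (by omega) (hcoeff i)
      · rw [if_pos rfl, hp.coeff_natDegree, map_one]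
      · rw [if_neg hi.ne', coeff_eq_zero_of_natDegree_lt hi, map_zero]
    simp only [q, Polynomial.map_mul, Polynomial.map_comp, hmap, Polynomial.map_sub, Polynomial.map_pow, map_X,
      X_pow_comp, ← pow_succ, ← mul_pow]
    ring

theorem exists_etale_lift_idempotent_integral {A B : Type u} [CommRing A] [CommRing B] [Algebra A B]
    [Algebra.IsIntegral A B] (I : Ideal A) (e : B ⧸ I.map (algebraMap A B)) (he : IsIdempotentElem e) :
    ∃ (A' : Type u) (_ : CommRing A') (_ : Algebra A A'), Algebra.Etale A A' ∧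
      Function.Bijective (Ideal.quotientMap (Ideal.map (algebraMap A A') I) (algebraMap A A')
        Ideal.le_comap_map) ∧
      ∃ e' : A' ⊗[A] B, IsIdempotentElem e' ∧
        ∀ b : B, Ideal.Quotient.mk (I.map (algebraMap A B)) b = e →
          e' - 1 ⊗ₜ b ∈ I.map (algebraMap A (A' ⊗[A] B)) := by
  obtain ⟨b₀, hb₀⟩ := Ideal.Quotient.mk_surjective e
  obtain ⟨f, d, hf, hd, hfb, hfmod⟩ := exists_monic_annihilator I b₀ (hb₀ ▸ he)
  have hcop : IsCoprime ((X : A[X]) ^ d) ((X - 1) ^ d) := IsCoprime.pow ⟨1, -1, by ring⟩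
  obtain ⟨p, q, hpq⟩ := hcop
  let t : AdjoinRoot f := AdjoinRoot.mk f (p * X ^ d)
  have hF : X ^ d * (X - 1) ^ d - f ∈ I.map (Polynomial.C : A →+* A[X]) := by
    have h : X ^ d * (X - 1) ^ d - f ∈ RingHom.ker (Polynomial.mapRingHom (Ideal.Quotient.mk I)) := by
      rw [RingHom.mem_ker, coe_mapRingHom, Polynomial.map_sub, hfmod]
      simp
    rwa [Polynomial.ker_mapRingHom, Ideal.mk_ker] at h
  have ht : t * t - t ∈ I.map (algebraMap A (AdjoinRoot f)) := by
    have h := Ideal.mem_map_of_mem (AdjoinRoot.mk f) hF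
    rw [Ideal.map_map, show (AdjoinRoot.mk f).comp Polynomial.C = algebraMap A (AdjoinRoot f) from rfl,
      map_sub, AdjoinRoot.mk_self, sub_zero] at h
    have e2 : t * t - t = AdjoinRoot.mk f (-(p * q)) * AdjoinRoot.mk f (X ^ d * (X - 1) ^ d) := by
      rw [← map_mul, ← map_mul, ← map_sub]
      congr 1
      linear_combination (p * X ^ d) * hpq
    rw [e2]
    exact Ideal.mul_mem_left _ _ h
  obtain ⟨C, _, _, hC, φ, -, hker, y, hy, hyt⟩ :=
    exists_etale_idempotent_lift_free I (AdjoinRoot.powerBasis' hf).basis t ht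
  let h : AdjoinRoot f →ₐ[A] B := AdjoinRoot.liftAlgHom f (Algebra.ofId A B) b₀ hfb
  let H := Algebra.TensorProduct.map (AlgHom.id A C) h
  refine ⟨C, _, _, hC, bijective_quotientMap I φ hker, H y, hy.map H, fun b hb => ?_⟩
  have h1 : H (y - 1 ⊗ₜ t) ∈ I.map (algebraMap A (C ⊗[A] B)) := by
    have := Ideal.mem_map_of_mem H.toRingHom hyt
    rwa [Ideal.map_map, AlgHom.toRingHom_eq_coe, AlgHom.comp_algebraMap] at this
  have hht : h t = aeval b₀ (p * X ^ d) := by
    show h (AdjoinRoot.mk f (p * X ^ d)) = _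
    rw [AdjoinRoot.liftAlgHom_mk]
    rfl
  have h2 : h t - b ∈ I.map (algebraMap A B) := by
    rw [← Ideal.Quotient.eq, hb, hht, ← Ideal.Quotient.mkₐ_eq_mk A, ← aeval_algHom_apply,
      Ideal.Quotient.mkₐ_eq_mk, hb₀]
    have hone := congrArg (aeval e) hpq
    simp only [map_add, map_mul, map_pow, map_sub, map_one, aeval_X] at hone ⊢
    obtain ⟨j, rfl⟩ : ∃ j, d = j + 1 := ⟨d - 1, by omega⟩
    rw [he.pow_succ_eq j] at hone ⊢
    have h0 : e * (e - 1) ^ (j + 1) = 0 := by
      rw [pow_succ', ← mul_assoc, mul_sub, mul_one, he.eq, sub_self, zero_mul]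
    linear_combination e * hone - aeval e p * he.eq - aeval e q * h0
  have h3 : (1 : C) ⊗ₜ[A] (h t - b) ∈ I.map (algebraMap A (C ⊗[A] B)) := by
    have := Ideal.mem_map_of_mem (Algebra.TensorProduct.includeRight : B →ₐ[A] C ⊗[A] B).toRingHom h2
    rw [Ideal.map_map, AlgHom.toRingHom_eq_coe, AlgHom.comp_algebraMap] at this
    exact this
  have h4 := add_mem h1 h3
  rw [map_sub, show H (1 ⊗ₜ t) = 1 ⊗ₜ h t from Algebra.TensorProduct.map_tmul _ _ _ _, TensorProduct.tmul_sub,
    sub_add_sub_cancel] at h4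
  exact h4

theorem exists_etale_lift_completeOrthogonalIdempotents (A : Type u) [CommRing A] (I : Ideal A)
    (n : ℕ) (e : Fin n → A ⧸ I) (he : CompleteOrthogonalIdempotents e) :
    ∃ (A' : Type u) (_ : CommRing A') (_ : Algebra A A'), Algebra.Etale A A' ∧
      Function.Bijective (Ideal.quotientMap (Ideal.map (algebraMap A A') I) (algebraMap A A')
        Ideal.le_comap_map) ∧
      ∃ e' : Fin n → A', CompleteOrthogonalIdempotents e' ∧
        ∀ j, Ideal.Quotient.mk (Ideal.map (algebraMap A A') I) (e' j) =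
          Ideal.quotientMap (Ideal.map (algebraMap A A') I) (algebraMap A A') Ideal.le_comap_map
            (e j) := by
  classical
  choose t ht using fun j => Ideal.Quotient.mk_surjective (e j)
  have htI : t * t - t ∈ I.map (algebraMap A (Fin n → A)) := by
    have e1 : t * t - t = ∑ j, algebraMap A (Fin n → A) (t j * t j - t j) * Pi.single j 1 := by
      funext i
      simp [Finset.sum_apply, Pi.single_apply]
    rw [e1]
    refine Ideal.sum_mem _ fun j _ => Ideal.mul_mem_right _ _ (Ideal.mem_map_of_mem _ ?_)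
    rw [← Ideal.Quotient.eq, map_mul, ht]
    exact he.idem j
  obtain ⟨C, _, _, hC, φ, hφ, hker, y, hy, hyt⟩ :=
    exists_etale_idempotent_lift_free I (Pi.basisFun A (Fin n)) t htI
  let π : Fin n → (C ⊗[A] (Fin n → A) →ₐ[A] C) := fun j =>
    Algebra.TensorProduct.lift (AlgHom.id A C) ((Algebra.ofId A C).comp (Pi.evalAlgHom A (fun _ => A) j))
      fun _ _ => Commute.all _ _
  let z : Fin n → C := fun j => π j y
  have hz : ∀ j, z j * z j = z j := fun j => (hy.map (π j)).eq
  have hzt : ∀ j, z j - algebraMap A C (t j) ∈ I.map (algebraMap A C) := fun j => by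
    have := Ideal.mem_map_of_mem (π j).toRingHom hyt
    rw [Ideal.map_map, AlgHom.toRingHom_eq_coe, AlgHom.comp_algebraMap] at this
    have e1 : π j (1 ⊗ₜ t) = algebraMap A C (t j) := by
      show Algebra.TensorProduct.lift _ _ _ (1 ⊗ₜ t) = _
      rw [Algebra.TensorProduct.lift_tmul]
      simp
    rw [← e1]
    show π j y - π j (1 ⊗ₜ t) ∈ _
    rw [← map_sub]
    exact this
  have hφz : ∀ j, φ (z j) = e j := fun j => by
    have := hzt j
    rw [← hker, RingHom.mem_ker, map_sub, sub_eq_zero, AlgHom.commutes, Ideal.Quotient.algebraMap_eq, ht] at this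
    exact this
  let w : C := (∏ i, ∏ j, if i = j then 1 else 1 - z i * z j) * ∑ i, z i
  have hw : φ w = 1 := by
    simp only [w, map_mul, map_prod, map_sum, hφz, he.complete, mul_one]
    refine Finset.prod_eq_one fun i _ => Finset.prod_eq_one fun j _ => ?_
    split_ifs with h
    · exact map_one φ
    · rw [map_sub, map_one, map_mul, hφz, hφz, he.ortho h, sub_zero]
  obtain ⟨φ', -, hφ', hker'⟩ := exists_away_lift φ hφ (I.map (algebraMap A C)) hker.ge w
    (by rw [hw]; exact isUnit_one) (fun x hx => ⟨0, by rw [pow_zero, one_mul, ← hker]; exact hx⟩)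
  let A' := Localization.Away w
  haveI : Algebra.Etale C A' := Algebra.Etale.of_isLocalizationAway w
  haveI : Algebra.Etale A A' := Algebra.Etale.comp A C A'
  rw [Ideal.map_map, ← IsScalarTower.algebraMap_eq A C A'] at hker'
  let ι := algebraMap C A'
  have hu : IsUnit (ι w) := IsLocalization.Away.algebraMap_isUnit w
  have hu' : IsUnit ((∏ i, ∏ j, if i = j then 1 else 1 - ι (z i) * ι (z j)) * ∑ i, ι (z i)) := by
    convert hu using 1
    simp only [w, map_mul, map_prod, map_sum, apply_ite ι, map_one, map_sub]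
  have hortho : ∀ i j, i ≠ j → ι (z i) * ι (z j) = 0 := fun i j hij => by
    have h1 : IsUnit (1 - ι (z i) * ι (z j)) := by
      refine isUnit_of_dvd_unit ?_ (isUnit_of_mul_isUnit_left hu')
      have h2 : (if i = j then (1 : A') else 1 - ι (z i) * ι (z j)) = 1 - ι (z i) * ι (z j) := if_neg hij
      rw [← h2]
      exact (Finset.dvd_prod_of_mem _ (Finset.mem_univ j)).trans
        (Finset.dvd_prod_of_mem (fun i => ∏ j, if i = j then 1 else 1 - ι (z i) * ι (z j)) (Finset.mem_univ i))
    refine h1.mul_right_eq_zero.1 ?_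
    rw [sub_mul, one_mul, sub_eq_zero, ← map_mul, ← map_mul]
    congr 1
    rw [mul_mul_mul_comm, hz, hz]
  have ho : OrthogonalIdempotents (fun i => ι (z i)) :=
    ⟨fun i => by show ι (z i) * ι (z i) = ι (z i); rw [← map_mul, hz], fun i j h => hortho i j h⟩
  refine ⟨A', inferInstance, inferInstance, inferInstance, bijective_quotientMap I φ' hker',
    fun i => ι (z i), ⟨ho, ?_⟩, fun j => ?_⟩
  · have hidem : (∑ i, ι (z i)) * ∑ i, ι (z i) = ∑ i, ι (z i) := by
      rw [Finset.sum_mul_sum]
      refine Finset.sum_congr rfl fun i _ => ?_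
      rw [Finset.sum_eq_single i (fun j _ h => hortho i j h.symm) (by simp)]
      exact ho.idem i
    exact (isUnit_of_mul_isUnit_right hu').mul_right_cancel (hidem.trans (one_mul _).symm)
  · rw [← ht j, Ideal.quotientMap_mk, Ideal.Quotient.eq, IsScalarTower.algebraMap_apply A C A', ← map_sub]
    have := Ideal.mem_map_of_mem ι (hzt j)
    rwa [Ideal.map_map, ← IsScalarTower.algebraMap_eq A C A'] at this

end Groth.Agent.SmoothLiftH7
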