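import Mathlib.RingTheory.Localization.Away.Basic
import Mathlib.RingTheory.Localization.Ideal
import Mathlib.RingTheory.Nakayama
import Mathlib.RingTheory.Finiteness.Ideal
import Mathlib.RingTheory.Ideal.Quotient.Operations

/-!
# Kernels on localisations and Nakayama
-/

set_option autoImplicit false
universe u

namespace Groth.Agent.SmoothLiftH7

/-- Nakayama: if `D ⊆ D ^ 2 + J` with `D` finitely generated then `J` is `D + J` locally near `D + J`. -/
theorem exists_sub_one_mem_mul_mem {T : Type u} [CommRing T] (D J : Ideal T) (hD : D.FG)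
    (h : D ≤ D * D ⊔ J) : ∃ u : T, u - 1 ∈ D ⊔ J ∧ ∀ x ∈ D ⊔ J, u * x ∈ J := by
  let q := Ideal.Quotient.mk J
  have h' : D.map q ≤ D.map q • D.map q := by
    calc D.map q ≤ (D * D ⊔ J).map q := Ideal.map_mono h
      _ = D.map q • D.map q := by
        rw [Ideal.map_sup, Ideal.map_mul, Ideal.map_quotient_self, sup_bot_eq, smul_eq_mul]
  obtain ⟨r, hr, hr0⟩ :=
    Submodule.exists_sub_one_mem_and_smul_eq_zero_of_fg_of_le_smul _ _ (hD.map q) h'
  obtain ⟨u, rfl⟩ := Ideal.Quotient.mk_surjective r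
  have hmem : ∀ {x : T}, q x ∈ D.map q → x ∈ D ⊔ J := fun {x} hx => by
    rwa [← Ideal.mem_comap, Ideal.comap_map_of_surjective _ Ideal.Quotient.mk_surjective,
      ← RingHom.ker_eq_comap_bot, Ideal.mk_ker] at hx
  refine ⟨u, hmem (by rwa [map_sub, map_one]), fun x hx => ?_⟩
  rw [← Ideal.Quotient.eq_zero_iff_mem, map_mul]
  refine hr0 _ ?_
  have := Ideal.mem_map_of_mem q hx
  rwa [Ideal.map_sup, Ideal.map_quotient_self, sup_bot_eq] at this

/-- A surjection extends to the localisation at an element mapping to a unit, with the expected kernel. -/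
theorem exists_away_lift {R C A₀ : Type u} [CommRing R] [CommRing C] [Algebra R C] [CommRing A₀]
    [Algebra R A₀] (φ : C →ₐ[R] A₀) (hφ : Function.Surjective φ) (J : Ideal C)
    (hJ : J ≤ RingHom.ker φ) (u : C) (hu : IsUnit (φ u))
    (h : ∀ x, φ x = 0 → ∃ k, u ^ k * x ∈ J) :
    ∃ φ' : Localization.Away u →ₐ[R] A₀, Function.Surjective φ' ∧
      (∀ x, φ' (algebraMap C _ x) = φ x) ∧
      RingHom.ker φ' = J.map (algebraMap C (Localization.Away u)) := by
  let φ' : Localization.Away u →ₐ[R] A₀ := IsLocalization.Away.liftAlgHom u (f := φ) hu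
  have hφ' : ∀ x, φ' (algebraMap C _ x) = φ x := fun x =>
    IsLocalization.Away.lift_eq (g := φ.toRingHom) u hu x
  refine ⟨φ', fun a => ?_, hφ', le_antisymm (fun z hz => ?_) ?_⟩
  · obtain ⟨x, rfl⟩ := hφ a
    exact ⟨algebraMap C _ x, hφ' x⟩
  · obtain ⟨x, ⟨_, n, rfl⟩, rfl⟩ := IsLocalization.exists_mk'_eq (.powers u) z
    have h0 : φ x = 0 := by
      have e := congrArg φ' (IsLocalization.mk'_spec (Localization.Away u) x
        (⟨u ^ n, n, rfl⟩ : Submonoid.powers u))
      rw [map_mul, RingHom.mem_ker.mp hz, zero_mul, hφ'] at e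
      exact e.symm
    obtain ⟨k, hk⟩ := h x h0
    rw [IsLocalization.mk'_mem_map_algebraMap_iff]
    exact ⟨u ^ k, ⟨k, rfl⟩, hk⟩
  · rw [Ideal.map_le_iff_le_comap]
    intro x hx
    rw [Ideal.mem_comap, RingHom.mem_ker, hφ']
    exact hJ hx

end Groth.Agent.SmoothLiftH7
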