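import Mathlib.RingTheory.Etale.Kaehler
import Mathlib.RingTheory.MvPolynomial.Basic
import Mathlib.Algebra.MvPolynomial.Derivation
import Mathlib.Algebra.MvPolynomial.PDeriv

/-!
# Derivations of an etale algebra over a polynomial ring
-/

set_option autoImplicit false
set_option linter.style.haveILetI false
universe u

open KaehlerDifferential TensorProduct

namespace Groth.Agent.SmoothLiftH7

theorem pderiv_mem_map_C {R : Type u} [CommRing R] (I : Ideal R) {n : ℕ} (i : Fin n)
    {p : MvPolynomial (Fin n) R} (hp : p ∈ I.map (algebraMap R (MvPolynomial (Fin n) R))) :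
    MvPolynomial.pderiv i p ∈ I.map (algebraMap R (MvPolynomial (Fin n) R)) := by
  induction hp using Submodule.span_induction with
  | mem x hx => obtain ⟨r, -, rfl⟩ := hx; simp
  | zero => simp
  | add x y _ _ hx hy => rw [map_add]; exact add_mem hx hy
  | smul a x hx' hx =>
    rw [smul_eq_mul, MvPolynomial.pderiv_mul]
    exact add_mem (Ideal.mul_mem_left _ _ hx') (Ideal.mul_mem_left _ _ hx)

theorem exists_derivation {R : Type u} [CommRing R] {n m : ℕ} (C : Type u) [CommRing C] [Algebra R C]
    [Algebra (MvPolynomial (Fin n) R) C] [IsScalarTower R (MvPolynomial (Fin n) R) C]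
    [Algebra.FormallyEtale (MvPolynomial (Fin n) R) C] (W : Fin n → Fin m → MvPolynomial (Fin n) R) :
    ∃ dC : Derivation R C (Fin m → C), ∀ p j, dC (algebraMap (MvPolynomial (Fin n) R) C p) j =
      algebraMap (MvPolynomial (Fin n) R) C (∑ k, MvPolynomial.pderiv k p * W k j) := by
  let d₀ : Derivation R (MvPolynomial (Fin n) R) (Fin m → C) := MvPolynomial.mkDerivation R fun k j => algebraMap (MvPolynomial (Fin n) R) C (W k j)
  let L : Ω[C⁄R] →ₗ[C] (Fin m → C) :=
    LinearMap.liftBaseChange C d₀.liftKaehlerDifferential ∘ₗ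
      (tensorKaehlerEquivOfFormallyEtale R (MvPolynomial (Fin n) R) C).symm.toLinearMap
  refine ⟨L.compDer (D R C), fun p j => ?_⟩
  have e : L (D R C (algebraMap (MvPolynomial (Fin n) R) C p)) = d₀ p := by
    show LinearMap.liftBaseChange C _ ((tensorKaehlerEquivOfFormallyEtale R (MvPolynomial (Fin n) R) C).symm _) = _
    rw [tensorKaehlerEquivOfFormallyEtale_symm_D_algebraMap, LinearMap.liftBaseChange_tmul, one_smul,
      Derivation.liftKaehlerDifferential_comp_D]
  show L (D R C (algebraMap (MvPolynomial (Fin n) R) C p)) j = _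
  rw [e]
  clear e
  induction p using MvPolynomial.induction_on with
  | C a => simp [← MvPolynomial.algebraMap_eq]
  | add p q hp hq =>
    simp only [map_add, Pi.add_apply, add_mul, Finset.sum_add_distrib]
    rw [hp, hq]
  | mul_X p i hp =>
    have hX : d₀ (MvPolynomial.X i) j = algebraMap (MvPolynomial (Fin n) R) C (W i j) := by
      simp [d₀, MvPolynomial.mkDerivation_X]
    rw [Derivation.leibniz, Pi.add_apply, Pi.smul_apply, Pi.smul_apply, hX, hp, Algebra.smul_def,
      Algebra.smul_def, ← map_mul, ← map_mul, ← map_add]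
    congr 1
    simp only [MvPolynomial.pderiv_mul, MvPolynomial.pderiv_X, Pi.single_apply, add_mul,
      Finset.sum_add_distrib, Finset.mul_sum, mul_ite, ite_mul, mul_one, mul_zero, zero_mul,
      Finset.sum_ite_eq', Finset.sum_ite_eq, Finset.mem_univ, if_true]
    rw [add_comm]
    rw [← Finset.sum_congr rfl (fun k _ => (by ring :
      MvPolynomial.X i * (MvPolynomial.pderiv k p * W k j) = MvPolynomial.pderiv k p * MvPolynomial.X i * W k j)),
      ← Finset.mul_sum]

end Groth.Agent.SmoothLiftH7
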