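import Mathlib.RingTheory.Smooth.Basic
import Mathlib.RingTheory.Derivation.Basic
import Mathlib.LinearAlgebra.Matrix.NonsingularInverse

/-!
# The Jacobian criterion with an idempotent matrix of relations
-/

set_option autoImplicit false
set_option linter.style.haveILetI false
universe u

open Matrix

namespace Groth.Agent.SmoothLiftH7

theorem isUnit_of_isUnit_mk {S : Type u} [CommRing S] (I : Ideal S) (hI : I ^ 2 = ⊥) {x : S}
    (hx : IsUnit (Ideal.Quotient.mk I x)) : IsUnit x := by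
  obtain ⟨y, hy⟩ := hx.exists_right_inv
  obtain ⟨y, rfl⟩ := Ideal.Quotient.mk_surjective y
  have hm : x * y - 1 ∈ I := Ideal.Quotient.eq.1 (by rw [map_mul, hy, map_one])
  have h2 : (x * y - 1) * (x * y - 1) = 0 := by
    have := Ideal.mul_mem_mul hm hm
    rwa [← pow_two, hI, Ideal.mem_bot] at this
  exact IsUnit.of_mul_eq_one (y * (2 - x * y)) (by linear_combination -h2)

variable {R C : Type u} [CommRing R] [CommRing C] [Algebra R C] {m : ℕ}

/-- `U = 1 - P + M P`, the corrected Jacobian. -/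
def corrJac (P : Matrix (Fin m) (Fin m) C) (dC : Derivation R C (Fin m → C)) (g : Fin m → C) :
    Matrix (Fin m) (Fin m) C :=
  1 - P + (Matrix.of fun l j => dC (g l) j) * P

theorem formallySmooth_away [Algebra.FormallySmooth R C] (P : Matrix (Fin m) (Fin m) C) (hP : P * P = P)
    (g : Fin m → C) (hg : P *ᵥ g = g) (dC : Derivation R C (Fin m → C)) (w : C ⧸ Ideal.span (Set.range g))
    (hw : Ideal.Quotient.mk _ (corrJac P dC g).det ∣ w) :
    Algebra.FormallySmooth R (Localization.Away w) := by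
  classical
  refine Algebra.FormallySmooth.iff_comp_surjective.2 fun S _ _ I hI h => ?_
  let G₀ := Ideal.span (Set.range g)
  let iA : C →ₐ[R] Localization.Away w :=
    (IsScalarTower.toAlgHom R (C ⧸ G₀) (Localization.Away w)).comp (Ideal.Quotient.mkₐ R G₀)
  let φ : C →ₐ[R] S := Algebra.FormallySmooth.lift I ⟨2, hI⟩ (h.comp iA)
  have hφ : ∀ c, Ideal.Quotient.mk I (φ c) = h (iA c) := fun c =>
    Algebra.FormallySmooth.mk_lift I ⟨2, hI⟩ (h.comp iA) c
  have hI2 : ∀ {a b : S}, a ∈ I → b ∈ I → a * b = 0 := fun ha hb => by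
    have := Ideal.mul_mem_mul ha hb
    rwa [← pow_two, hI, Ideal.mem_bot] at this
  let G : Fin m → S := φ ∘ g
  have hG₀ : ∀ c ∈ G₀, φ c ∈ I := fun c hc => by
    rw [← Ideal.Quotient.eq_zero_iff_mem, hφ]
    show h (algebraMap (C ⧸ G₀) _ (Ideal.Quotient.mk G₀ c)) = 0
    rw [Ideal.Quotient.eq_zero_iff_mem.2 hc, map_zero, map_zero]
  have hG : ∀ l, G l ∈ I := fun l => hG₀ _ (Ideal.subset_span ⟨l, rfl⟩)
  let Pφ := φ.mapMatrix P
  let Mφ := φ.mapMatrix (Matrix.of fun l j => dC (g l) j)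
  have hPP : Pφ * Pφ = Pφ := by rw [← map_mul, hP]
  have hPG : Pφ *ᵥ G = G := by
    funext l
    exact (RingHom.map_mulVec φ.toRingHom P g l).symm.trans (congrArg φ (congrFun hg l))
  have hPM : ∀ v : Fin m → S, (∀ j, v j ∈ I) → Pφ *ᵥ (Mφ *ᵥ v) = Mφ *ᵥ v := fun v hv => by
    rw [← sub_eq_zero, Matrix.mulVec_mulVec, ← Matrix.sub_mulVec]
    funext l
    rw [Pi.zero_apply, Matrix.mulVec, dotProduct]
    refine Finset.sum_eq_zero fun j _ => hI2 ?_ (hv j)
    rw [show Pφ * Mφ - Mφ = φ.mapMatrix (P * (Matrix.of fun l j => dC (g l) j) - Matrix.of fun l j => dC (g l) j) by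
      rw [map_sub, map_mul]]
    refine hG₀ _ ?_
    have e : dC (g l) = ∑ k, P l k • dC (g k) + ∑ k, g k • dC (P l k) := by
      have hgl : g l = ∑ k, P l k * g k := (congrFun hg l).symm
      conv_lhs => rw [hgl, map_sum]
      simp only [Derivation.leibniz, Finset.sum_add_distrib]
    have hj := congrFun e j
    simp only [Pi.add_apply, Finset.sum_apply, Pi.smul_apply, smul_eq_mul] at hj
    rw [Matrix.sub_apply, Matrix.mul_apply]
    simp only [Matrix.of_apply]
    rw [hj, sub_add_eq_sub_sub, sub_self, zero_sub]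
    exact G₀.neg_mem (Ideal.sum_mem _ fun k _ => Ideal.mul_mem_right _ _ (Ideal.subset_span ⟨k, rfl⟩))
  let U := 1 - Pφ + Mφ * Pφ
  have hU : IsUnit U.det := by
    have e : U = φ.mapMatrix (corrJac P dC g) := by
      simp only [U, Pφ, Mφ, corrJac, map_add, map_sub, map_mul, map_one]
    rw [e, ← AlgHom.map_det]
    refine isUnit_of_isUnit_mk I hI ?_
    rw [hφ]
    refine IsUnit.map h ?_
    exact isUnit_of_dvd_unit (map_dvd (algebraMap (C ⧸ G₀) (Localization.Away w)) hw)
      (IsLocalization.Away.algebraMap_isUnit w)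
  let H : Fin m → S := U⁻¹ *ᵥ G
  have hH : ∀ j, H j ∈ I := fun j => by
    show ∑ k, U⁻¹ j k * G k ∈ I
    exact Ideal.sum_mem _ fun k _ => Ideal.mul_mem_left _ _ (hG k)
  have hUH : U *ᵥ H = G := by
    rw [Matrix.mulVec_mulVec, Matrix.mul_nonsing_inv U hU, Matrix.one_mulVec]
  have hPH : ∀ j, (Pφ *ᵥ H) j ∈ I := fun j => by
    show ∑ k, Pφ j k * H k ∈ I
    exact Ideal.sum_mem _ fun k _ => Ideal.mul_mem_left _ _ (hH k)
  have hMH : Mφ *ᵥ H = G := by
    have e₁ : (H - Pφ *ᵥ H) + Mφ *ᵥ (Pφ *ᵥ H) = G := by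
      rw [← hUH]
      simp only [U, Matrix.add_mulVec, Matrix.sub_mulVec, Matrix.one_mulVec, Matrix.mulVec_mulVec]
    have e₂ : Mφ *ᵥ (Pφ *ᵥ H) = G := by
      have := congrArg (Pφ *ᵥ ·) e₁
      have hPPH : Pφ *ᵥ (Pφ *ᵥ H) = Pφ *ᵥ H := by rw [Matrix.mulVec_mulVec, hPP]
      simp only [Matrix.mulVec_add, Matrix.mulVec_sub, hPPH, sub_self, zero_add, hPM _ hPH, hPG] at this
      exact this
    have e₃ : Pφ *ᵥ H = H := by
      rw [e₂, add_eq_right, sub_eq_zero] at e₁
      exact e₁.symm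
    rwa [e₃] at e₂
  let δ : C → S := fun c => ∑ j, φ (dC c j) * H j
  have hδI : ∀ c, δ c ∈ I := fun c => Ideal.sum_mem _ fun j _ => Ideal.mul_mem_left _ _ (hH j)
  let ψ : C →ₐ[R] S := AlgHom.ofLinearMap
    { toFun := fun c => φ c - δ c
      map_add' := fun a b => by
        simp only [δ, map_add, Pi.add_apply, add_mul, Finset.sum_add_distrib]
        ring
      map_smul' := fun r a => by
        simp only [δ, map_smul, Derivation.map_smul, Pi.smul_apply, RingHom.id_apply, smul_sub, Finset.smul_sum,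
          Algebra.smul_mul_assoc] }
    (by simp [δ])
    (fun a b => by
      show φ (a * b) - δ (a * b) = (φ a - δ a) * (φ b - δ b)
      have e : δ (a * b) = φ a * δ b + φ b * δ a := by
        simp only [δ, Derivation.leibniz, Pi.add_apply, Pi.smul_apply, smul_eq_mul, map_add, map_mul, add_mul,
          Finset.sum_add_distrib, Finset.mul_sum, mul_assoc]
      rw [map_mul, e]
      linear_combination -(hI2 (hδI a) (hδI b)))
  have hψg : ∀ c ∈ G₀, ψ c = 0 := fun c hc => by
    refine (Ideal.span_le (I := RingHom.ker ψ)).2 ?_ hc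
    rintro _ ⟨l, rfl⟩
    show φ (g l) - δ (g l) = 0
    rw [sub_eq_zero]
    exact (congrFun hMH l).symm
  let ψQ : (C ⧸ G₀) →ₐ[R] S := Ideal.Quotient.liftₐ G₀ ψ hψg
  have hψφ : ∀ c, Ideal.Quotient.mk I (ψ c) = h (iA c) := fun c => by
    show Ideal.Quotient.mk I (φ c - δ c) = _
    rw [map_sub, Ideal.Quotient.eq_zero_iff_mem.2 (hδI c), sub_zero, hφ]
  have hunit : ∀ y : Submonoid.powers w, IsUnit (ψQ y) := by
    rintro ⟨_, k, rfl⟩
    refine isUnit_of_isUnit_mk I hI ?_
    obtain ⟨w', hw'⟩ := Ideal.Quotient.mk_surjective w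
    show IsUnit (Ideal.Quotient.mk I (ψQ (w ^ k)))
    rw [← hw', ← map_pow]
    show IsUnit (Ideal.Quotient.mk I (ψ (w' ^ k)))
    rw [hψφ]
    refine IsUnit.map h ?_
    show IsUnit (algebraMap (C ⧸ G₀) _ (Ideal.Quotient.mk G₀ (w' ^ k)))
    rw [map_pow, hw', map_pow]
    exact (IsLocalization.Away.algebraMap_isUnit w).pow k
  refine ⟨IsLocalization.liftAlgHom (f := ψQ) hunit, AlgHom.coe_ringHom_injective
    (IsLocalization.ringHom_ext (Submonoid.powers w) (RingHom.ext fun x => ?_))⟩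
  obtain ⟨c, rfl⟩ := Ideal.Quotient.mk_surjective x
  show Ideal.Quotient.mk I (IsLocalization.liftAlgHom (f := ψQ) hunit
    (algebraMap _ (Localization.Away w) (Ideal.Quotient.mk G₀ c))) = _
  rw [IsLocalization.liftAlgHom_apply, IsLocalization.lift_eq]
  exact hψφ c

end Groth.Agent.SmoothLiftH7
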