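import Groth.Agent.Lib.SmoothLiftH7.System
import Mathlib.LinearAlgebra.TensorProduct.Tower
import Mathlib.RingTheory.TensorProduct.Maps
import Mathlib.LinearAlgebra.Matrix.ToLin

/-!
# Idempotents of finite free algebras lift étale locally
-/

set_option autoImplicit false
set_option linter.style.haveILetI false
universe u

open MvPolynomial TensorProduct

namespace Groth.Agent.SmoothLiftH7

theorem repr_mem_of_mem_map {A T : Type u} [CommRing A] [CommRing T] [Algebra A T] (K : Ideal A) {N : ℕ}
    (b : Module.Basis (Fin N) A T) {z : T} (hz : z ∈ K.map (algebraMap A T)) (k : Fin N) : b.repr z k ∈ K := by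
  suffices ∀ s : T, b.repr (s * z) k ∈ K by simpa using this 1
  induction hz using Submodule.span_induction with
  | mem x hx =>
    obtain ⟨r, hr, rfl⟩ := hx
    intro s
    rw [mul_comm, ← Algebra.smul_def, map_smul, Finsupp.smul_apply, smul_eq_mul]
    exact Ideal.mul_mem_right _ _ hr
  | zero => intro s; simp
  | add x y _ _ hx hy => intro s; rw [mul_add, map_add, Finsupp.add_apply]; exact add_mem (hx s) (hy s)
  | smul a x _ hx => intro s; rw [smul_eq_mul, ← mul_assoc]; exact hx _

theorem exists_etale_idempotent_lift_free {A T : Type u} [CommRing A] [CommRing T] [Algebra A T]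
    (K : Ideal A) {N : ℕ} (b : Module.Basis (Fin N) A T) (t : T) (ht : t * t - t ∈ K.map (algebraMap A T)) :
    ∃ (C : Type u) (_ : CommRing C) (_ : Algebra A C), Algebra.Etale A C ∧
      ∃ φ : C →ₐ[A] A ⧸ K, Function.Surjective φ ∧ RingHom.ker φ = K.map (algebraMap A C) ∧
      ∃ y : C ⊗[A] T, IsIdempotentElem y ∧
        y - 1 ⊗ₜ t ∈ K.map (algebraMap A (C ⊗[A] T)) := by
  classical
  let c : Fin N → Fin N → Fin N → A := fun i j k => b.repr (b i * b j) k
  let F : Fin N → MvPolynomial (Fin N) A := fun k =>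
    (∑ i, ∑ j, MvPolynomial.C (c i j k) * X i * X j) - X k
  let a : Fin N → A := fun i => b.repr t i
  have hsum : ∀ v w : T, v * w = ∑ i, ∑ j, (b.repr v i * b.repr w j) • (b i * b j) := fun v w => by
    conv_lhs => rw [← b.sum_repr v, ← b.sum_repr w, Finset.sum_mul_sum]
    exact Finset.sum_congr rfl fun i _ => Finset.sum_congr rfl fun j _ => by rw [smul_mul_smul_comm]
  have hrepr : ∀ v w : T, ∀ k, b.repr (v * w) k = ∑ i, ∑ j, c i j k * b.repr v i * b.repr w j := fun v w k => by
    rw [hsum, map_sum, Finsupp.finsetSum_apply]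
    refine Finset.sum_congr rfl fun i _ => ?_
    rw [map_sum, Finsupp.finsetSum_apply]
    exact Finset.sum_congr rfl fun j _ => by
      rw [map_smul, Finsupp.smul_apply, smul_eq_mul]
      simp only [c]
      ring
  have hF : ∀ k, eval a (F k) ∈ K := fun k => by
    have h := repr_mem_of_mem_map K b ht k
    rw [map_sub, Finsupp.sub_apply, hrepr] at h
    simpa [F, a] using h
  let M := Algebra.leftMulMatrix b (2 * t - 1)
  have hjac : eval a (Hens.jacDet F) = M.det := by
    rw [Hens.jacDet, RingHom.map_det]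
    congr 1
    ext k l
    show eval a (pderiv l (F k)) = M k l
    have h1 : ∑ j, c l j k * a j = b.repr (b l * t) k := by
      rw [hrepr]
      simp [a, Finsupp.single_apply]
    have h2 : ∑ i, c i l k * a i = b.repr (t * b l) k := by
      rw [hrepr]
      simp [a, Finsupp.single_apply]
    rw [show M k l = b.repr ((2 * t - 1) * b l) k from Algebra.leftMulMatrix_eq_repr_mul b _ _ _,
      show (2 * t - 1) * b l = b l * t + t * b l - b l by ring, map_sub b.repr, map_add b.repr, Finsupp.sub_apply,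
      Finsupp.add_apply, ← h1, ← h2]
    simp only [F, map_sub, map_sum, pderiv_mul, pderiv_C, pderiv_X, map_add, map_mul, eval_C, eval_X, zero_mul,
      zero_add, Finset.sum_add_distrib, Pi.single_apply, apply_ite (eval a), map_one, map_zero, mul_ite, ite_mul,
      mul_one, mul_zero]
    simp [Finset.sum_ite_eq', Finset.sum_ite_eq, Finsupp.single_apply, eq_comm]
  have hunit : IsUnit (Ideal.Quotient.mk K M.det) := by
    refine IsUnit.of_mul_eq_one (Ideal.Quotient.mk K M.det) ?_
    rw [← map_mul, ← Matrix.det_mul, ← map_mul, RingHom.map_det]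
    convert Matrix.det_one (R := A ⧸ K) (n := Fin N)
    ext k l
    have h : b.repr ((4 * (t * t - t)) * b l) k ∈ K :=
      repr_mem_of_mem_map K b (Ideal.mul_mem_right _ _ (Ideal.mul_mem_left _ _ ht)) k
    rw [RingHom.mapMatrix_apply, Matrix.map_apply, Algebra.leftMulMatrix_eq_repr_mul,
      show (2 * t - 1) * (2 * t - 1) * b l = b l + 4 * (t * t - t) * b l by ring, map_add, Finsupp.add_apply,
      map_add, Ideal.Quotient.eq_zero_iff_mem.2 h, add_zero, b.repr_self]
    simp [Finsupp.single_apply, Matrix.one_apply, apply_ite (Ideal.Quotient.mk K), eq_comm]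
  obtain ⟨C, _, _, hC, φ, hφ, hker, x, hx, hxa⟩ :=
    exists_etale_zero_of_isUnit_jacDet K F a hF (hjac ▸ hunit)
  refine ⟨C, _, _, hC, φ, hφ, hker, ∑ i, x i ⊗ₜ[A] b i, ?_, ?_⟩
  · show (∑ i, x i ⊗ₜ[A] b i) * (∑ i, x i ⊗ₜ[A] b i) = _
    have hxk : ∀ k, x k = ∑ i, ∑ j, algebraMap A C (c i j k) * x i * x j := fun k => by
      have h := hx k
      simp only [F, map_sub, map_sum, map_mul, aeval_C, aeval_X] at h
      exact (sub_eq_zero.1 h).symm
    rw [Finset.sum_mul_sum]
    have hterm : ∀ k ∈ Finset.univ,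
        x k ⊗ₜ[A] b k = (∑ i, ∑ j, algebraMap A C (c i j k) * x i * x j) ⊗ₜ[A] b k :=
      fun k _ => congrArg (· ⊗ₜ[A] b k) (hxk k)
    rw [Finset.sum_congr rfl hterm]
    simp only [TensorProduct.sum_tmul]
    conv_rhs => rw [Finset.sum_comm]; enter [2, i]; rw [Finset.sum_comm]
    refine Finset.sum_congr rfl fun i _ => Finset.sum_congr rfl fun j _ => ?_
    rw [Algebra.TensorProduct.tmul_mul_tmul]
    conv_lhs => rw [← b.sum_repr (b i * b j), TensorProduct.tmul_sum]
    refine Finset.sum_congr rfl fun k _ => ?_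
    rw [TensorProduct.tmul_smul, TensorProduct.smul_tmul', Algebra.smul_def, mul_assoc]
  · rw [show (1 : C) ⊗ₜ[A] t = ∑ i, (1 : C) ⊗ₜ[A] (b.repr t i • b i) by
      rw [← TensorProduct.tmul_sum, b.sum_repr], ← Finset.sum_sub_distrib]
    refine Ideal.sum_mem _ fun i _ => ?_
    rw [TensorProduct.tmul_smul, TensorProduct.smul_tmul', ← TensorProduct.sub_tmul, Algebra.smul_def, mul_one]
    have h := Ideal.mem_map_of_mem (Algebra.TensorProduct.includeLeft : C →ₐ[A] C ⊗[A] T).toRingHom (hxa i)
    rw [Ideal.map_map, AlgHom.toRingHom_eq_coe, AlgHom.comp_algebraMap] at h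
    rw [show (x i - algebraMap A C (b.repr t i)) ⊗ₜ[A] b i =
      ((x i - algebraMap A C (a i)) ⊗ₜ[A] (1 : T)) * ((1 : C) ⊗ₜ[A] b i) by
        rw [Algebra.TensorProduct.tmul_mul_tmul, mul_one, one_mul]]
    exact Ideal.mul_mem_right _ _ h

end Groth.Agent.SmoothLiftH7
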