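import Groth.Agent.Lib.SmoothLiftH7.Away
import Groth.Agent.Lib.Hens.System
import Mathlib.LinearAlgebra.Matrix.Kronecker
import Mathlib.RingTheory.Etale.Basic
import Mathlib.RingTheory.Etale.StandardEtale
import Mathlib.Tactic.NoncommRing

/-!
# Idempotent matrices lift to an étale neighbourhood

The equations `P² - P + P E - E P = 0` have invertible jacobian at `P = E`.
-/

set_option autoImplicit false
set_option linter.style.haveILetI false
universe u

open MvPolynomial Kronecker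

namespace Groth.Agent.SmoothLiftH7

/-- If `q` commutes with `P` and equals `[E, P]`, then it satisfies a linear equation near the identity. -/
theorem eq_small_mul {S : Type u} [Ring S] (P E q : S) (hq : P * P - P = q)
    (h : q = E * P - P * E) (hc : q * P = P * q) :
    q = -(2 * (q * q)) + q * (E - P) - (E - P) * q - 2 * (q * (E * P - P)) + 2 * ((P * E - P) * q) := by
  have hPP : P * P = P + q := by rw [← hq]; abel
  have e₁ : q + 2 * (q * q) = q - P * q - q * P + 2 * (P * q * P) := by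
    rw [mul_assoc P q P, hc, ← mul_assoc P P q, hPP]
    noncomm_ring
  have e₂ : q - P * q - q * P + 2 * (P * q * P) = q * E - E * q + 2 * (P * (E * q)) - 2 * (q * (E * P)) := by
    conv_lhs => rw [h]
    simp only [mul_sub, sub_mul, ← mul_assoc, hPP]
    simp only [mul_assoc, hPP]
    noncomm_ring
  calc q = (q + 2 * (q * q)) - 2 * (q * q) := by abel
    _ = (q * E - E * q + 2 * (P * (E * q)) - 2 * (q * (E * P))) - 2 * (q * q) := by rw [e₁, e₂]
    _ = _ := by
      rw [sub_eq_add_neg (q * E)]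
      simp only [mul_sub, sub_mul, mul_assoc, hc, neg_mul]
      noncomm_ring

theorem exists_etale_idempotent_lift {B : Type u} [CommRing B] (K : Ideal B) {m : ℕ}
    (E : Matrix (Fin m) (Fin m) B) (hE : ∀ i j, (E * E - E) i j ∈ K) :
    ∃ (C : Type u) (_ : CommRing C) (_ : Algebra B C), Algebra.Etale B C ∧
      ∃ φ : C →ₐ[B] B ⧸ K, RingHom.ker φ = K.map (algebraMap B C) ∧
      ∃ P : Matrix (Fin m) (Fin m) C, P * P = P ∧
        ∀ i j, P i j - algebraMap B C (E i j) ∈ K.map (algebraMap B C) := by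
  classical
  let ε : Fin (m * m) ≃ Fin m × Fin m := finProdFinEquiv.symm
  let X₀ : Matrix (Fin m) (Fin m) (MvPolynomial (Fin (m * m)) B) :=
    Matrix.of fun i j => X (ε.symm (i, j))
  let E₀ : Matrix (Fin m) (Fin m) (MvPolynomial (Fin (m * m)) B) :=
    E.map (MvPolynomial.C (σ := Fin (m * m)))
  let Fm := X₀ * X₀ - X₀ + X₀ * E₀ - E₀ * X₀
  let F : Fin (m * m) → MvPolynomial (Fin (m * m)) B := fun k => Fm (ε k).1 (ε k).2
  let R₁ := Ideal.span (Set.range F)
  let T := MvPolynomial (Fin (m * m)) B ⧸ R₁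
  let ev : MvPolynomial (Fin (m * m)) B →ₐ[B] B ⧸ K :=
    aeval fun k => Ideal.Quotient.mk K (E (ε k).1 (ε k).2)
  let Eb : Matrix (Fin m) (Fin m) (B ⧸ K) := E.map (Ideal.Quotient.mk K)
  have hEb : Eb * Eb = Eb := by
    rw [← sub_eq_zero]
    ext i j
    have := Ideal.Quotient.eq_zero_iff_mem.2 (hE i j)
    simpa [Eb, Matrix.mul_apply] using this
  have hevX : ev.mapMatrix X₀ = Eb := by
    ext i j
    simp [ev, X₀, Eb]
  have hevE : ev.mapMatrix E₀ = Eb := by
    ext i j
    simp [ev, E₀, Eb]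
  have hevF : ev.mapMatrix Fm = 0 := by
    simp only [Fm, map_sub, map_add, map_mul, hevX, hevE, hEb]
    abel
  let φT : T →ₐ[B] B ⧸ K := Ideal.Quotient.liftₐ R₁ ev fun p hp => by
    refine (Ideal.span_le (I := RingHom.ker ev)).mpr ?_ hp
    rintro _ ⟨k, rfl⟩
    exact congrFun (congrFun hevF (ε k).1) (ε k).2
  have hφTmk : ∀ p, φT (Ideal.Quotient.mk R₁ p) = ev p := fun p => rfl
  have hφT : Function.Surjective φT := fun z => by
    obtain ⟨b, rfl⟩ := Ideal.Quotient.mk_surjective z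
    exact ⟨algebraMap B T b, φT.commutes b⟩
  let qT := Ideal.Quotient.mkₐ B R₁
  let PT : Matrix (Fin m) (Fin m) T := qT.mapMatrix X₀
  let ET : Matrix (Fin m) (Fin m) T := E.map (algebraMap B T)
  have hET : qT.mapMatrix E₀ = ET := by
    ext i j
    rfl
  have hF : PT * PT - PT + PT * ET - ET * PT = 0 := by
    have h1 : qT.mapMatrix Fm = 0 := by
      ext i j
      show Ideal.Quotient.mk R₁ (Fm i j) = 0
      rw [Ideal.Quotient.eq_zero_iff_mem]
      exact Ideal.subset_span ⟨ε.symm (i, j), by simp [F]⟩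
    simpa only [Fm, map_sub, map_add, map_mul, hET] using h1
  let D : Ideal T := Ideal.span (Set.range fun k : Fin (m * m) => (PT - ET) (ε k).1 (ε k).2)
  let KT : Ideal T := K.map (algebraMap B T)
  have hd : ∀ i j, (PT - ET) i j ∈ D := fun i j => Ideal.subset_span ⟨ε.symm (i, j), by simp⟩
  have hKTφ : KT ≤ RingHom.ker φT := Ideal.map_le_iff_le_comap.2 fun b hb => by
    rw [Ideal.mem_comap, RingHom.mem_ker, AlgHom.commutes, Ideal.Quotient.algebraMap_eq]
    exact Ideal.Quotient.eq_zero_iff_mem.2 hb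
  have hDφ : D ≤ RingHom.ker φT := by
    refine Ideal.span_le.2 ?_
    rintro _ ⟨k, rfl⟩
    show φT (qT (X₀ (ε k).1 (ε k).2) - algebraMap B T (E (ε k).1 (ε k).2)) = 0
    rw [map_sub, AlgHom.commutes, show φT (qT (X₀ (ε k).1 (ε k).2)) = ev (X₀ (ε k).1 (ε k).2) from rfl,
      show ev (X₀ (ε k).1 (ε k).2) = Eb (ε k).1 (ε k).2 from congrFun (congrFun hevX _) _,
      Ideal.Quotient.algebraMap_eq]
    exact sub_self _
  have hDsq : D ≤ D * D ⊔ KT := by
    let qK : T →+* T ⧸ (D * D ⊔ KT) := Ideal.Quotient.mk _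
    let d := qK.mapMatrix (PT - ET)
    let e := qK.mapMatrix ET
    have he : e * e = e := by
      rw [← sub_eq_zero, ← map_mul, ← map_sub]
      ext i j
      show qK ((ET * ET - ET) i j) = 0
      rw [Ideal.Quotient.eq_zero_iff_mem]
      refine Ideal.mem_sup_right ?_
      have := Ideal.mem_map_of_mem (algebraMap B T) (hE i j)
      simpa [ET, Matrix.mul_apply] using this
    have hdd : d * d = 0 := by
      rw [← map_mul]
      ext i j
      show qK (((PT - ET) * (PT - ET)) i j) = 0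
      rw [Ideal.Quotient.eq_zero_iff_mem, Matrix.mul_apply]
      exact Ideal.mem_sup_left (Ideal.sum_mem _ fun k _ => Ideal.mul_mem_mul (hd i k) (hd k j))
    have h1 : (d + e) * (d + e) - (d + e) + (d + e) * e - e * (d + e) = 0 := by
      have := congrArg qK.mapMatrix hF
      simpa only [d, e, map_sub, map_add, map_mul, map_zero, sub_add_cancel] using this
    have h2 : d * (2 * e - 1) = 0 := by
      rw [← h1]
      simp only [add_mul, mul_add, hdd, he, mul_sub, mul_one, two_mul]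
      abel
    have h3 : d = 0 := by
      have h4 : (2 * e - 1) * (2 * e - 1) = 1 := by
        simp only [mul_sub, sub_mul, mul_one, one_mul, two_mul, mul_add, add_mul, he]
        abel
      calc d = d * ((2 * e - 1) * (2 * e - 1)) := by rw [h4, mul_one]
        _ = 0 := by rw [← mul_assoc, h2, zero_mul]
    refine Ideal.span_le.2 ?_
    rintro _ ⟨k, rfl⟩
    exact Ideal.Quotient.eq_zero_iff_mem.1 (congrFun (congrFun h3 (ε k).1) (ε k).2)
  have hker : ∀ x, φT x = 0 → x ∈ D ⊔ KT := by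
    intro x hx
    let q' := Ideal.Quotient.mkₐ B (D ⊔ KT)
    let iK : (B ⧸ K) →ₐ[B] T ⧸ (D ⊔ KT) := Ideal.Quotient.liftₐ K (Algebra.ofId B _) fun b hb => by
      show algebraMap B (T ⧸ (D ⊔ KT)) b = 0
      rw [IsScalarTower.algebraMap_apply B T, Ideal.Quotient.algebraMap_eq, Ideal.Quotient.eq_zero_iff_mem]
      exact Ideal.mem_sup_right (Ideal.mem_map_of_mem _ hb)
    have hcomp : iK.comp φT = q' := by
      refine Ideal.Quotient.algHom_ext _ (MvPolynomial.algHom_ext fun k => ?_)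
      show iK (ev (X k)) = Ideal.Quotient.mk (D ⊔ KT) (qT (X k))
      rw [show ev (X k) = Ideal.Quotient.mk K (E (ε k).1 (ε k).2) from aeval_X _ _, eq_comm]
      refine Ideal.Quotient.eq.2 (Ideal.mem_sup_left ?_)
      have := hd (ε k).1 (ε k).2
      simpa [PT, ET, X₀] using this
    have := AlgHom.congr_fun hcomp x
    rw [AlgHom.comp_apply, hx, map_zero] at this
    exact Ideal.Quotient.eq_zero_iff_mem.1 this.symm
  obtain ⟨u₂, hu₂, hu₂D⟩ := exists_sub_one_mem_mul_mem D KT (Submodule.fg_span (Set.finite_range _)) hDsq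
  let Δ : T := Ideal.Quotient.mk R₁ (Hens.jacDet F)
  have hφu₂ : φT u₂ = 1 := by
    have h := sup_le hDφ hKTφ hu₂
    rwa [RingHom.mem_ker, map_sub, map_one, sub_eq_zero] at h
  have hΔ : IsUnit (φT Δ) := by
    let S := 2 * Eb - 1
    have hS : S * S = 1 := by
      simp only [S, mul_sub, sub_mul, mul_one, one_mul, two_mul, mul_add, add_mul, hEb]
      abel
    have hmap : ev.mapMatrix (Matrix.of fun i j => pderiv j (F i)) =
        ((1 : Matrix (Fin m) (Fin m) (B ⧸ K)) ⊗ₖ S.transpose).submatrix ε ε := by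
      ext k l
      let dl : Matrix (Fin m) (Fin m) (MvPolynomial (Fin (m * m)) B) → Matrix (Fin m) (Fin m) (B ⧸ K) :=
        fun M => M.map fun p => ev (pderiv l p)
      have hadd : ∀ M N, dl (M + N) = dl M + dl N := fun M N => by ext; simp [dl]
      have hsub : ∀ M N, dl (M - N) = dl M - dl N := fun M N => by ext; simp [dl]
      have hmul : ∀ M N, dl (M * N) = dl M * ev.mapMatrix N + ev.mapMatrix M * dl N := fun M N => by
        ext i j
        simp [dl, Matrix.mul_apply, Finset.sum_add_distrib]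
        rw [add_comm]
        congr 1
        exact Finset.sum_congr rfl fun x _ => mul_comm _ _
      have hX : dl X₀ = Matrix.single (ε l).1 (ε l).2 1 := by
        ext i j
        simp only [dl, X₀, Matrix.map_apply, Matrix.of_apply, pderiv_X, Pi.single_apply, Matrix.single_apply,
          apply_ite ev, map_one, map_zero]
        refine if_congr ?_ rfl rfl
        rw [Equiv.symm_apply_eq, Prod.ext_iff]
        exact ⟨fun h => ⟨h.1.symm, h.2.symm⟩, fun h => ⟨h.1.symm, h.2.symm⟩⟩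
      have hE' : dl E₀ = 0 := by ext i j; simp [dl, E₀]
      have hFm : dl Fm = dl X₀ * S := by
        simp only [Fm, hsub, hadd, hmul, hE', hevX, hevE, mul_zero, zero_mul, add_zero, zero_add, S,
          mul_sub, mul_one, two_mul, mul_add]
        abel
      show ev (pderiv l (F k)) = _
      rw [show ev (pderiv l (F k)) = dl Fm (ε k).1 (ε k).2 from rfl, hFm, hX]
      simp only [Matrix.submatrix_apply, Matrix.kroneckerMap_apply, Matrix.transpose_apply, Matrix.one_apply,
        Matrix.mul_apply, Matrix.single_apply]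
      by_cases hk : (ε k).1 = (ε l).1
      · simp [hk]
      · simp [hk, Ne.symm hk]
    show IsUnit (ev (Hens.jacDet F))
    rw [Hens.jacDet, AlgHom.map_det, hmap, Matrix.det_submatrix_equiv_self]
    refine IsUnit.of_mul_eq_one ((1 : Matrix (Fin m) (Fin m) (B ⧸ K)) ⊗ₖ S.transpose).det ?_
    rw [← Matrix.det_mul, ← Matrix.mul_kronecker_mul, one_mul, ← Matrix.transpose_mul, hS,
      Matrix.transpose_one, Matrix.one_kronecker_one, Matrix.det_one]
  let C₀ := Localization.Away Δ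
  haveI : Algebra.Etale B C₀ := Hens.etale_away_jacDet F
  obtain ⟨φ₀, hφ₀, hφ₀T, hker₀⟩ := exists_away_lift φT hφT (D ⊔ KT) (sup_le hDφ hKTφ) Δ hΔ
    (fun x hx => ⟨0, by simpa using hker x hx⟩)
  let a₀ : T →+* C₀ := algebraMap T C₀
  have hKmap : KT.map a₀ = K.map (algebraMap B C₀) := by
    rw [Ideal.map_map, ← IsScalarTower.algebraMap_eq B T C₀]
  obtain ⟨φ₁, hφ₁, hφ₁₀, hker₁⟩ := exists_away_lift φ₀ hφ₀ (K.map (algebraMap B C₀))
    (by rw [hker₀, ← hKmap]; exact Ideal.map_mono le_sup_right) (a₀ u₂)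
    (by rw [hφ₀T, hφu₂]; exact isUnit_one)
    (fun x hx => ⟨1, by
      rw [pow_one, ← hKmap]
      have hx' : x ∈ (D ⊔ KT).map a₀ := hker₀ ▸ RingHom.mem_ker.2 hx
      have h : Ideal.span {u₂} * (D ⊔ KT) ≤ KT :=
        Ideal.span_singleton_mul_le_iff.2 fun y hy => hu₂D y hy
      have := Ideal.map_mono (f := a₀) h
      rw [Ideal.map_mul, Ideal.map_span, Set.image_singleton] at this
      exact Ideal.span_singleton_mul_le_iff.1 this x hx'⟩)
  let C₁ := Localization.Away (a₀ u₂)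
  haveI : Algebra.Etale C₀ C₁ := Algebra.Etale.of_isLocalizationAway (a₀ u₂)
  haveI : Algebra.Etale B C₁ := Algebra.Etale.comp B C₀ C₁
  let a₁ : T →ₐ[B] C₁ := (IsScalarTower.toAlgHom B C₀ C₁).comp (IsScalarTower.toAlgHom B T C₀)
  let P₁ : Matrix (Fin m) (Fin m) C₁ := a₁.mapMatrix PT
  let E₁ : Matrix (Fin m) (Fin m) C₁ := E.map (algebraMap B C₁)
  have hE₁ : a₁.mapMatrix ET = E₁ := by
    ext i j
    exact a₁.commutes _
  let K₁ := K.map (algebraMap B C₁)
  have hK₁ : (K.map (algebraMap B C₀)).map (algebraMap C₀ C₁) = K₁ := by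
    rw [Ideal.map_map, ← IsScalarTower.algebraMap_eq B C₀ C₁]
  have hP₁ : ∀ i j, (P₁ - E₁) i j ∈ K₁ := fun i j => by
    rw [← hE₁, ← map_sub, ← hK₁, ← hker₁, RingHom.mem_ker]
    show φ₁ (algebraMap C₀ C₁ (a₀ ((PT - ET) i j))) = 0
    rw [hφ₁₀, hφ₀T]
    exact hDφ (hd i j)
  let q := P₁ * P₁ - P₁
  have hF₁ : q = E₁ * P₁ - P₁ * E₁ := by
    have h := congrArg a₁.mapMatrix hF
    rw [map_zero, map_sub, map_add, map_sub, map_mul, map_mul, map_mul, hE₁] at h
    rw [show q = P₁ * P₁ - P₁ from rfl, ← sub_eq_zero, ← h]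
    abel
  let N : Ideal C₁ := Ideal.span (Set.range fun k : Fin (m * m) => q (ε k).1 (ε k).2)
  have hqN : ∀ i j, q i j ∈ N := fun i j => Ideal.subset_span ⟨ε.symm (i, j), by simp⟩
  have hN : N ≤ K₁ • N := by
    rw [smul_eq_mul]
    let z : C₁ →+* C₁ ⧸ K₁ := Ideal.Quotient.mk K₁
    have hz : ∀ M : Matrix (Fin m) (Fin m) C₁, z.mapMatrix M = 0 → ∀ i j, M i j ∈ K₁ := fun M h i j =>
      Ideal.Quotient.eq_zero_iff_mem.1 (congrFun (congrFun h i) j)
    have hzPE : z.mapMatrix (E₁ - P₁) = 0 := by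
      ext i j
      show z ((E₁ - P₁) i j) = 0
      rw [Ideal.Quotient.eq_zero_iff_mem, Matrix.sub_apply, ← neg_sub]
      exact K₁.neg_mem (hP₁ i j)
    have hze : z.mapMatrix E₁ * z.mapMatrix E₁ = z.mapMatrix E₁ := by
      suffices h : z.mapMatrix (E₁ * E₁ - E₁) = 0 by
        simpa only [map_sub, map_mul, sub_eq_zero] using h
      ext i j
      show z ((E₁ * E₁ - E₁) i j) = 0
      rw [Ideal.Quotient.eq_zero_iff_mem]
      have := Ideal.mem_map_of_mem (algebraMap B C₁) (hE i j)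
      simpa [E₁, Matrix.mul_apply] using this
    have hzP : z.mapMatrix P₁ = z.mapMatrix E₁ := by
      rw [map_sub, sub_eq_zero] at hzPE
      exact hzPE.symm
    have hq0 : ∀ i j, q i j ∈ K₁ := hz _ (by rw [map_sub, map_mul, hzP, hze, sub_self])
    have hA : ∀ i j, (E₁ - P₁) i j ∈ K₁ := hz _ hzPE
    have hA₁ : ∀ i j, (E₁ * P₁ - P₁) i j ∈ K₁ := hz _ (by rw [map_sub, map_mul, hzP, hze, sub_self])
    have hA₂ : ∀ i j, (P₁ * E₁ - P₁) i j ∈ K₁ := hz _ (by rw [map_sub, map_mul, hzP, hze, sub_self])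
    have hr : ∀ M : Matrix (Fin m) (Fin m) C₁, (∀ i j, M i j ∈ K₁) → ∀ i j, (q * M) i j ∈ K₁ * N := fun M hM i j =>
      Matrix.mul_apply (M := q) ▸ Ideal.sum_mem _ fun k _ => mul_comm (M k j) (q i k) ▸ Ideal.mul_mem_mul (hM k j) (hqN i k)
    have hl : ∀ M : Matrix (Fin m) (Fin m) C₁, (∀ i j, M i j ∈ K₁) → ∀ i j, (M * q) i j ∈ K₁ * N := fun M hM i j =>
      Matrix.mul_apply (M := M) ▸ Ideal.sum_mem _ fun k _ => Ideal.mul_mem_mul (hM i k) (hqN k j)
    have he := eq_small_mul P₁ E₁ q rfl hF₁ (by simp only [q, sub_mul, mul_sub, mul_assoc])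
    refine Ideal.span_le.2 ?_
    rintro _ ⟨k, rfl⟩
    show q (ε k).1 (ε k).2 ∈ K₁ * N
    rw [he]
    simp only [two_mul, Matrix.add_apply, Matrix.sub_apply, Matrix.neg_apply]
    exact add_mem (sub_mem (sub_mem (add_mem (neg_mem (add_mem (hr _ hq0 _ _) (hr _ hq0 _ _))) (hr _ hA _ _))
      (hl _ hA _ _)) (add_mem (hr _ hA₁ _ _) (hr _ hA₁ _ _))) (add_mem (hl _ hA₂ _ _) (hl _ hA₂ _ _))
  obtain ⟨u₃, hu₃, hu₃N⟩ :=
    Submodule.exists_sub_one_mem_and_smul_eq_zero_of_fg_of_le_smul K₁ N (Submodule.fg_span (Set.finite_range _)) hN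
  have hK₁φ : K₁ = RingHom.ker φ₁ := hK₁ ▸ hker₁.symm
  obtain ⟨φ₂, -, -, hker₂⟩ := exists_away_lift φ₁ hφ₁ K₁ hK₁φ.le u₃
    (by
      have : φ₁ u₃ = 1 := by
        have h : u₃ - 1 ∈ RingHom.ker φ₁ := hK₁φ ▸ hu₃
        rwa [RingHom.mem_ker, map_sub, map_one, sub_eq_zero] at h
      rw [this]; exact isUnit_one)
    (fun x hx => ⟨0, by rw [pow_zero, one_mul, hK₁φ]; exact hx⟩)
  let C := Localization.Away u₃
  haveI : Algebra.Etale C₁ C := Algebra.Etale.of_isLocalizationAway u₃
  haveI : Algebra.Etale B C := Algebra.Etale.comp B C₁ C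
  refine ⟨C, inferInstance, inferInstance, inferInstance, φ₂, ?_, (algebraMap C₁ C).mapMatrix P₁, ?_, fun i j => ?_⟩
  · rw [hker₂, Ideal.map_map, ← IsScalarTower.algebraMap_eq B C₁ C]
  · suffices h : (algebraMap C₁ C).mapMatrix (P₁ * P₁ - P₁) = 0 by
      simpa only [map_sub, map_mul, sub_eq_zero] using h
    ext i j
    rw [Matrix.zero_apply, RingHom.mapMatrix_apply, Matrix.map_apply]
    show algebraMap C₁ C (q i j) = 0
    refine (IsLocalization.Away.algebraMap_isUnit (S := C) u₃).mul_right_eq_zero.1 ?_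
    have h := hu₃N _ (hqN i j)
    rw [smul_eq_mul] at h
    rw [← map_mul, h, map_zero]
  · rw [IsScalarTower.algebraMap_apply B C₁ C]
    have := Ideal.mem_map_of_mem (algebraMap C₁ C : C₁ →+* C) (hP₁ i j)
    rw [Ideal.map_map, ← IsScalarTower.algebraMap_eq B C₁ C] at this
    simpa [E₁] using this

end Groth.Agent.SmoothLiftH7
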