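import Groth.Agent.Lib.SmoothLiftH7.Deriv
import Groth.Agent.Lib.Hens.SmoothLift
import Mathlib.RingTheory.Etale.Kaehler
import Mathlib.RingTheory.MvPolynomial.Basic
import Mathlib.Algebra.MvPolynomial.Derivation
import Mathlib.RingTheory.FinitePresentation

/-!
# Smooth algebras over `R ⧸ I` lift to smooth algebras over `R`
-/

set_option autoImplicit false
set_option linter.style.haveILetI false
universe u

open Matrix KaehlerDifferential TensorProduct

namespace Groth.Agent.SmoothLiftH7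

theorem exists_presentation {R A₀ : Type u} [CommRing R] (I : Ideal R) [CommRing A₀]
    [Algebra (R ⧸ I) A₀] [Algebra.Smooth (R ⧸ I) A₀] [Algebra R A₀] [IsScalarTower R (R ⧸ I) A₀] :
    ∃ (n m : ℕ) (π : MvPolynomial (Fin n) R →ₐ[R] A₀) (f : Fin m → MvPolynomial (Fin n) R)
      (W : Fin n → Fin m → MvPolynomial (Fin n) R) (E : Matrix (Fin m) (Fin m) (MvPolynomial (Fin n) R)),
      Function.Surjective π ∧ (∀ l, π (f l) = 0) ∧
      RingHom.ker π = I.map (algebraMap R (MvPolynomial (Fin n) R)) ⊔ Ideal.span (Set.range f) ∧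
      (∀ l j, E l j = ∑ k, MvPolynomial.pderiv k (f l) * W k j) ∧
      (∀ l, f l - ∑ j, E l j * f j ∈
        RingHom.ker π * RingHom.ker π ⊔ I.map (algebraMap R (MvPolynomial (Fin n) R))) ∧
      ∀ l j, (E * E - E) l j ∈ RingHom.ker π := by
  classical
  obtain ⟨n, π₀, hπ₀, hfg⟩ := Algebra.FinitePresentation.out (R := R ⧸ I) (A := A₀)
  let red : (MvPolynomial (Fin n) R) →+* MvPolynomial (Fin n) (R ⧸ I) := MvPolynomial.map (Ideal.Quotient.mk I)
  have hred : Function.Surjective red := MvPolynomial.map_surjective _ Ideal.Quotient.mk_surjective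
  let π : (MvPolynomial (Fin n) R) →ₐ[R] A₀ :=
    { toRingHom := π₀.toRingHom.comp red
      commutes' := fun r => by
        show π₀ (red (MvPolynomial.C r)) = _
        rw [MvPolynomial.map_C, ← MvPolynomial.algebraMap_eq, AlgHom.commutes,
          IsScalarTower.algebraMap_apply R (R ⧸ I) A₀, Ideal.Quotient.algebraMap_eq] }
  have hπ : Function.Surjective π := hπ₀.comp hred
  let K : Ideal (MvPolynomial (Fin n) R) := RingHom.ker π
  let IB : Ideal (MvPolynomial (Fin n) R) := I.map (algebraMap R (MvPolynomial (Fin n) R))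
  have hIred : RingHom.ker red = IB := by
    rw [MvPolynomial.ker_map, Ideal.mk_ker, ← MvPolynomial.algebraMap_eq]
  have hIK : IB ≤ K := fun x hx => by
    rw [← hIred] at hx
    show π₀ (red x) = 0
    rw [RingHom.mem_ker.1 hx, map_zero]
  obtain ⟨m, f₀, hf₀⟩ := Submodule.fg_iff_exists_fin_generating_family.1 hfg
  choose f hf using fun l => hred (f₀ l)
  have hfK : ∀ l, f l ∈ K := fun l => by
    have h0 : f₀ l ∈ RingHom.ker π₀ := hf₀ ▸ Submodule.subset_span ⟨l, rfl⟩
    show π₀ (red (f l)) = 0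
    rw [hf]
    exact h0
  have hK : K = IB ⊔ Ideal.span (Set.range f) := by
    refine le_antisymm (fun x hx => ?_) (sup_le hIK (Ideal.span_le.2 (by rintro _ ⟨l, rfl⟩; exact hfK l)))
    have h0 : red x ∈ Submodule.span (MvPolynomial (Fin n) (R ⧸ I)) (Set.range f₀) := by
      rw [hf₀]
      exact hx
    obtain ⟨c, hc⟩ := Ideal.mem_span_range_iff_exists_fun.1 h0
    choose c' hc' using fun l => hred (c l)
    rw [show x = (x - ∑ l, c' l * f l) + ∑ l, c' l * f l by ring]
    refine Submodule.add_mem_sup ?_ (Ideal.sum_mem _ fun l _ => Ideal.mul_mem_left _ _ (Ideal.subset_span ⟨l, rfl⟩))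
    rw [← hIred, RingHom.mem_ker, map_sub, map_sum, sub_eq_zero, ← hc]
    exact Finset.sum_congr rfl fun l _ => by rw [map_mul, hc', hf]
  -- the section modulo `K²`
  let J₂ : Ideal (MvPolynomial (Fin n) R) := K * K ⊔ IB
  have hJ₂ : J₂ ≤ K := sup_le Ideal.mul_le_left hIK
  letI : Algebra (R ⧸ I) ((MvPolynomial (Fin n) R) ⧸ J₂) :=
    (Ideal.Quotient.lift I (algebraMap R ((MvPolynomial (Fin n) R) ⧸ J₂)) fun r hr => by
      rw [IsScalarTower.algebraMap_apply R (MvPolynomial (Fin n) R), Ideal.Quotient.algebraMap_eq, Ideal.Quotient.eq_zero_iff_mem]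
      exact Ideal.mem_sup_right (Ideal.mem_map_of_mem _ hr)).toAlgebra
  haveI : IsScalarTower R (R ⧸ I) ((MvPolynomial (Fin n) R) ⧸ J₂) := IsScalarTower.of_algebraMap_eq fun r => rfl
  let πR : ((MvPolynomial (Fin n) R) ⧸ J₂) →ₐ[R] A₀ := Ideal.Quotient.liftₐ J₂ π fun x hx => hJ₂ hx
  let π₁ : ((MvPolynomial (Fin n) R) ⧸ J₂) →ₐ[R ⧸ I] A₀ :=
    { toRingHom := πR.toRingHom
      commutes' := fun r => by
        obtain ⟨r, rfl⟩ := Ideal.Quotient.mk_surjective r
        show πR (algebraMap R ((MvPolynomial (Fin n) R) ⧸ J₂) r) = _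
        rw [AlgHom.commutes, IsScalarTower.algebraMap_apply R (R ⧸ I) A₀, Ideal.Quotient.algebraMap_eq] }
  have hπ₁ : Function.Surjective π₁ := fun a => by
    obtain ⟨x, rfl⟩ := hπ a
    exact ⟨Ideal.Quotient.mk J₂ x, rfl⟩
  have hnil : IsNilpotent (RingHom.ker π₁) := by
    refine ⟨2, ?_⟩
    have e : RingHom.ker π₁ = K.map (Ideal.Quotient.mk J₂) := by
      ext x
      obtain ⟨x, rfl⟩ := Ideal.Quotient.mk_surjective x
      rw [Ideal.mem_quotient_iff_mem hJ₂]
      rfl
    rw [e, ← Ideal.map_pow, pow_two, Submodule.zero_eq_bot, Ideal.map_eq_bot_iff_le_ker, Ideal.mk_ker]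
    exact le_sup_left
  let s := Algebra.FormallySmooth.liftOfSurjective (AlgHom.id (R ⧸ I) A₀) π₁ hπ₁ hnil
  choose y hy using fun k => Ideal.Quotient.mk_surjective (s (π (MvPolynomial.X k)))
  let g₁ : Fin n → (MvPolynomial (Fin n) R) := fun k => MvPolynomial.X k - y k
  have hg₁ : ∀ k, g₁ k ∈ K := fun k => by
    show π (MvPolynomial.X k - y k) = 0
    have e : π₁ (s (π (MvPolynomial.X k))) = π (MvPolynomial.X k) :=
      Algebra.FormallySmooth.liftOfSurjective_apply (AlgHom.id (R ⧸ I) A₀) π₁ hπ₁ hnil _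
    rw [← hy k] at e
    rw [map_sub, sub_eq_zero]
    exact e.symm
  have hgJ : ∀ x ∈ K, x - ∑ k, MvPolynomial.pderiv k x * g₁ k ∈ J₂ := fun x hx => by
    have hcomp : (s.restrictScalars R).comp π =
        (Ideal.Quotient.mkₐ R J₂).comp (MvPolynomial.aeval fun k => MvPolynomial.X k - g₁ k) :=
      MvPolynomial.algHom_ext fun k => by
        simp only [AlgHom.comp_apply, MvPolynomial.aeval_X, g₁, sub_sub_cancel]
        exact (hy k).symm
    have h0 : MvPolynomial.aeval (fun k => MvPolynomial.X k - g₁ k) x ∈ J₂ := by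
      have := congr($hcomp x)
      simp only [AlgHom.comp_apply, show π x = 0 from hx, map_zero] at this
      exact Ideal.Quotient.eq_zero_iff_mem.mp this.symm
    have := sub_mem h0 ((le_sup_left : K * K ≤ J₂) (Hens.taylor_mem_sq K g₁ hg₁ x))
    rwa [sub_sub_cancel] at this
  have hW₀ : ∀ k, ∃ c : Fin m → (MvPolynomial (Fin n) R), g₁ k - ∑ j, c j * f j ∈ IB := fun k => by
    obtain ⟨a, ha, b, hb, e⟩ := Submodule.mem_sup.1 (hK ▸ hg₁ k)
    obtain ⟨c, rfl⟩ := Ideal.mem_span_range_iff_exists_fun.1 hb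
    exact ⟨c, by rw [← e, add_sub_cancel_right]; exact ha⟩
  choose W hW using hW₀
  let E : Matrix (Fin m) (Fin m) (MvPolynomial (Fin n) R) := Matrix.of fun l j => ∑ k, MvPolynomial.pderiv k (f l) * W k j
  have hfE : ∀ l, f l - ∑ j, E l j * f j ∈ J₂ := fun l => by
    have h2 : ∑ k, MvPolynomial.pderiv k (f l) * (g₁ k - ∑ j, W k j * f j) ∈ J₂ :=
      Ideal.sum_mem _ fun k _ => Ideal.mul_mem_left _ _ ((le_sup_right : IB ≤ J₂) (hW k))
    have e : ∑ j, E l j * f j = ∑ k, MvPolynomial.pderiv k (f l) * ∑ j, W k j * f j := by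
      simp only [E, Matrix.of_apply, Finset.sum_mul, Finset.mul_sum, mul_assoc]
      exact Finset.sum_comm
    have h3 := add_mem (hgJ _ (hfK l)) h2
    simp only [mul_sub, Finset.sum_sub_distrib] at h3
    rwa [← e, sub_add_sub_cancel] at h3
  have hE : ∀ l j, (E * E - E) l j ∈ K := fun l j => by
    have hk : ∀ k, MvPolynomial.pderiv k (f l) - ∑ i, E l i * MvPolynomial.pderiv k (f i) ∈ K := fun k => by
      obtain ⟨a, ha, b, hb, e⟩ := Submodule.mem_sup.1 (hfE l)
      have h1 : MvPolynomial.pderiv k (f l - ∑ i, E l i * f i) ∈ K := by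
        rw [← e, map_add]
        exact add_mem (Hens.pderiv_mem_of_mem_sq K ha k) (hIK (pderiv_mem_map_C I k hb))
      have h2 : ∑ i, MvPolynomial.pderiv k (E l i) * f i ∈ K :=
        Ideal.sum_mem _ fun i _ => Ideal.mul_mem_left _ _ (hfK i)
      have h3 := add_mem h1 h2
      simp only [map_sub, map_sum, MvPolynomial.pderiv_mul, Finset.sum_add_distrib] at h3
      rwa [sub_add_eq_sub_sub, sub_right_comm, sub_add_cancel] at h3
    have h3 : ∑ k, (MvPolynomial.pderiv k (f l) - ∑ i, E l i * MvPolynomial.pderiv k (f i)) * W k j ∈ K :=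
      Ideal.sum_mem _ fun k _ => Ideal.mul_mem_right _ _ (hk k)
    have e₁ : E l j = ∑ k, MvPolynomial.pderiv k (f l) * W k j := rfl
    have e₂ : (E * E) l j = ∑ k, (∑ i, E l i * MvPolynomial.pderiv k (f i)) * W k j := by
      rw [Matrix.mul_apply, show (∑ i, E l i * E i j) = ∑ i, E l i * ∑ k, MvPolynomial.pderiv k (f i) * W k j from rfl]
      simp only [Finset.sum_mul, Finset.mul_sum, mul_assoc]
      exact Finset.sum_comm
    rw [Matrix.sub_apply, e₁, e₂, ← neg_sub, ← Finset.sum_sub_distrib]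
    refine K.neg_mem ?_
    simpa only [sub_mul] using h3
  exact ⟨n, m, π, f, W, E, hπ, hfK, hK, fun l j => rfl, hfE, hE⟩

end Groth.Agent.SmoothLiftH7
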