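import Groth.Agent.Lib.SmoothLiftH7.IdemMatrix
import Groth.Agent.Lib.SmoothLiftH7.Formal
import Groth.Agent.Lib.SmoothLiftH7.Present
import Mathlib.RingTheory.Etale.Kaehler
import Mathlib.RingTheory.MvPolynomial.Basic
import Mathlib.Algebra.MvPolynomial.Derivation
import Mathlib.RingTheory.FinitePresentation

/-!
# Smooth algebras over `R ⧸ I` lift to smooth algebras over `R`
-/

set_option autoImplicit false
set_option linter.style.haveILetI false
universe u

open Matrix KaehlerDifferential TensorProduct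

namespace Groth.Agent.SmoothLiftH7

theorem exists_smooth_lift_quotient {R A₀ : Type u} [CommRing R] (I : Ideal R) [CommRing A₀]
    [Algebra (R ⧸ I) A₀] [Algebra.Smooth (R ⧸ I) A₀] :
    ∃ (A : Type u) (_ : CommRing A) (_ : Algebra R A), Algebra.Smooth R A ∧
      Nonempty ((A ⧸ I.map (algebraMap R A)) ≃ₐ[R ⧸ I] A₀) := by
  classical
  letI : Algebra R A₀ := Algebra.compHom A₀ (Ideal.Quotient.mk I)
  haveI : IsScalarTower R (R ⧸ I) A₀ := IsScalarTower.of_algebraMap_eq' rfl
  obtain ⟨n, m, π, f, W, E, hπ, hfK, hK, hEdef, hfE, hE⟩ := exists_presentation (A₀ := A₀) I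
  let IB : Ideal (MvPolynomial (Fin n) R) := I.map (algebraMap R (MvPolynomial (Fin n) R))
  let K : Ideal (MvPolynomial (Fin n) R) := RingHom.ker π
  -- the étale neighbourhood with the idempotent
  obtain ⟨C, _, _, _, φ, hkerφ, P, hP, hPE⟩ := exists_etale_idempotent_lift K E hE
  letI : Algebra R C := Algebra.compHom C (algebraMap R (MvPolynomial (Fin n) R))
  haveI : IsScalarTower R (MvPolynomial (Fin n) R) C := IsScalarTower.of_algebraMap_eq' rfl
  let ψC : C →ₐ[R] A₀ := (Ideal.Quotient.liftₐ K π fun x hx => hx).comp (φ.restrictScalars R)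
  have hψCB : ∀ b, ψC (algebraMap (MvPolynomial (Fin n) R) C b) = π b := fun b => by
    show Ideal.Quotient.liftₐ K π (fun x hx => hx) (φ (algebraMap (MvPolynomial (Fin n) R) C b)) = π b
    rw [AlgHom.commutes, Ideal.Quotient.algebraMap_eq]
    rfl
  have hψC : Function.Surjective ψC := fun a => by
    obtain ⟨b, rfl⟩ := hπ a
    exact ⟨algebraMap (MvPolynomial (Fin n) R) C b, hψCB b⟩
  have hkerψC : RingHom.ker ψC = K.map (algebraMap (MvPolynomial (Fin n) R) C) := by
    rw [← hkerφ]
    ext x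
    obtain ⟨b, hb⟩ := Ideal.Quotient.mk_surjective (φ x)
    rw [RingHom.mem_ker, RingHom.mem_ker, ← hb, Ideal.Quotient.eq_zero_iff_mem]
    show Ideal.Quotient.liftₐ K π (fun x hx => hx) (φ x) = 0 ↔ _
    rw [← hb]
    rfl
  let IC : Ideal C := IB.map (algebraMap (MvPolynomial (Fin n) R) C)
  have hICR : IC = I.map (algebraMap R C) := by
    rw [IsScalarTower.algebraMap_eq R (MvPolynomial (Fin n) R) C, ← Ideal.map_map]
  let fC : Fin m → C := fun j => algebraMap (MvPolynomial (Fin n) R) C (f j)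
  let g : Fin m → C := P *ᵥ fC
  have hPg : P *ᵥ g = g := by rw [Matrix.mulVec_mulVec, hP]
  let G₀ := Ideal.span (Set.range g)
  let D : Ideal C := Ideal.span (Set.range fC)
  let J : Ideal C := IC ⊔ G₀
  have hfCK : ∀ j, fC j ∈ K.map (algebraMap (MvPolynomial (Fin n) R) C) := fun j => Ideal.mem_map_of_mem _ (hfK j)
  have hKC : K.map (algebraMap (MvPolynomial (Fin n) R) C) = IC ⊔ D := by
    rw [show K = _ from hK, Ideal.map_sup, Ideal.map_span, ← Set.range_comp]
    rfl
  have hgK : ∀ l, g l ∈ K.map (algebraMap (MvPolynomial (Fin n) R) C) := fun l => by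
    show ∑ j, P l j * fC j ∈ _
    exact Ideal.sum_mem _ fun j _ => Ideal.mul_mem_left _ _ (hfCK j)
  have hKK : K.map (algebraMap (MvPolynomial (Fin n) R) C) * K.map (algebraMap (MvPolynomial (Fin n) R) C) ≤ D * D ⊔ J := by
    rw [hKC, Ideal.sup_mul, Ideal.mul_sup D IC D]
    refine sup_le ?_ (sup_le ?_ le_sup_left)
    · exact Ideal.mul_le_left.trans (le_sup_of_le_right le_sup_left)
    · exact Ideal.mul_le_right.trans (le_sup_of_le_right le_sup_left)
  have hDD : D ≤ D * D ⊔ J := by
    refine Ideal.span_le.2 ?_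
    rintro _ ⟨l, rfl⟩
    show fC l ∈ D * D ⊔ J
    have e : fC l = (algebraMap (MvPolynomial (Fin n) R) C (f l - ∑ j, E l j * f j) - ∑ j, (P l j - algebraMap (MvPolynomial (Fin n) R) C (E l j)) * fC j) + g l := by
      simp only [g, fC, Matrix.mulVec, dotProduct, map_sub, map_sum, map_mul, sub_mul, Finset.sum_sub_distrib]
      ring
    rw [e]
    refine add_mem (sub_mem ?_ ?_) (Ideal.mem_sup_right (Ideal.mem_sup_right (Ideal.subset_span ⟨l, rfl⟩)))
    · have h := Ideal.mem_map_of_mem (algebraMap (MvPolynomial (Fin n) R) C) (hfE l)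
      rw [Ideal.map_sup, Ideal.map_mul] at h
      exact sup_le hKK (le_sup_of_le_right le_sup_left) h
    · exact hKK (Ideal.sum_mem _ fun j _ => Ideal.mul_mem_mul (hPE l j) (hfCK j))
  obtain ⟨u, hu, huJ⟩ := exists_sub_one_mem_mul_mem D J (Submodule.fg_span (Set.finite_range _)) hDD
  have hDJ : D ⊔ J = K.map (algebraMap (MvPolynomial (Fin n) R) C) := by
    rw [hKC]
    refine le_antisymm (sup_le le_sup_right (sup_le le_sup_left ?_)) (sup_le (le_sup_of_le_right le_sup_left) le_sup_left)
    rw [← hKC]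
    exact Ideal.span_le.2 (by rintro _ ⟨l, rfl⟩; exact hgK l)
  obtain ⟨dC, hdC⟩ := exists_derivation C W
  let U := corrJac P dC g
  have hψP : ∀ l j, ψC (P l j) = π (E l j) := fun l j => by
    have h : P l j - algebraMap (MvPolynomial (Fin n) R) C (E l j) ∈ RingHom.ker ψC := hkerψC ▸ hPE l j
    rwa [RingHom.mem_ker, map_sub, hψCB, sub_eq_zero] at h
  have hψM : ∀ l j, ψC (dC (g l) j) = π ((E * E) l j) := fun l j => by
    have hgl : g l = ∑ i, P l i * fC i := rfl
    have hfψ : ∀ i, ψC (fC i) = 0 := fun i => (hψCB (f i)).trans (hfK i)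
    rw [hgl, map_sum, Finset.sum_apply, map_sum, Matrix.mul_apply, map_sum]
    refine Finset.sum_congr rfl fun i _ => ?_
    simp only [Derivation.leibniz, Pi.add_apply, Pi.smul_apply, smul_eq_mul, map_add, map_mul, hfψ, hψP, zero_mul,
      add_zero]
    congr 1
    exact ((congrArg ψC (hdC (f i) j)).trans (hψCB _)).trans (congrArg π (hEdef i j).symm)
  have hUone : ψC.mapMatrix U = 1 := by
    let Eb : Matrix (Fin m) (Fin m) A₀ := π.mapMatrix E
    have hEb : Eb * Eb = Eb := by
      rw [← map_mul]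
      ext l j
      show π ((E * E) l j) = π (E l j)
      rw [← sub_eq_zero, ← map_sub]
      exact hE l j
    have hPb : ψC.mapMatrix P = Eb := by ext l j; exact hψP l j
    have hMb : ψC.mapMatrix (Matrix.of fun l j => dC (g l) j) = Eb := by
      rw [← hEb, ← map_mul]
      ext l j
      exact hψM l j
    simp only [U, corrJac, map_add, map_sub, map_mul, map_one, hPb, hMb, hEb, sub_add_cancel]
  let Q := C ⧸ G₀
  let ψQ : Q →ₐ[R] A₀ := Ideal.Quotient.liftₐ G₀ ψC fun x hx => by
    have hle : G₀ ≤ RingHom.ker ψC := by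
      rw [hkerψC]; exact Ideal.span_le.2 (by rintro _ ⟨l, rfl⟩; exact hgK l)
    exact hle hx
  have hψQ : Function.Surjective ψQ := fun a => by
    obtain ⟨c, rfl⟩ := hψC a
    exact ⟨Ideal.Quotient.mk G₀ c, rfl⟩
  let w : Q := Ideal.Quotient.mk G₀ (u * U.det)
  have hψu : ψC u = 1 := by
    have h : u - 1 ∈ RingHom.ker ψC := hkerψC ▸ hDJ ▸ hu
    rwa [RingHom.mem_ker, map_sub, map_one, sub_eq_zero] at h
  obtain ⟨φA, hφA, -, hkerA⟩ := exists_away_lift ψQ hψQ (I.map (algebraMap R Q))
    (Ideal.map_le_iff_le_comap.2 fun r hr => by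
      rw [Ideal.mem_comap, RingHom.mem_ker, AlgHom.commutes, IsScalarTower.algebraMap_apply R (R ⧸ I) A₀,
        Ideal.Quotient.algebraMap_eq, Ideal.Quotient.eq_zero_iff_mem.2 hr, map_zero]) w (by
      show IsUnit (ψC (u * U.det))
      rw [map_mul, hψu, AlgHom.map_det, hUone, Matrix.det_one, mul_one]
      exact isUnit_one)
    (fun x hx => by
      obtain ⟨c, rfl⟩ := Ideal.Quotient.mk_surjective x
      refine ⟨1, ?_⟩
      have hc : c ∈ D ⊔ J := by rw [hDJ, ← hkerψC]; exact hx
      rw [pow_one, ← map_mul, show u * U.det * c = U.det * (u * c) by ring]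
      have h : Ideal.Quotient.mk G₀ (U.det * (u * c)) ∈ J.map (Ideal.Quotient.mk G₀) :=
        Ideal.mem_map_of_mem _ (J.mul_mem_left _ (huJ c hc))
      rwa [Ideal.map_sup, Ideal.map_quotient_self, sup_bot_eq, hICR, Ideal.map_map] at h)
  let A := Localization.Away w
  haveI : Algebra.Smooth R (MvPolynomial (Fin n) R) := ⟨inferInstance, inferInstance⟩
  haveI : Algebra.Smooth R C := Algebra.Smooth.comp R (MvPolynomial (Fin n) R) C
  haveI : Algebra.FormallySmooth R A := formallySmooth_away P hP g hPg dC w (by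
    refine ⟨Ideal.Quotient.mk G₀ u, ?_⟩
    rw [← map_mul, mul_comm])
  haveI : Algebra.FinitePresentation R Q :=
    Algebra.FinitePresentation.quotient (Submodule.fg_span (Set.finite_range g))
  haveI : Algebra.FinitePresentation Q A := IsLocalization.Away.finitePresentation w
  haveI : Algebra.FinitePresentation R A := Algebra.FinitePresentation.trans R Q A
  refine ⟨A, inferInstance, inferInstance, ⟨inferInstance, inferInstance⟩, ?_⟩
  let IA : Ideal A := I.map (algebraMap R A)
  have hkA : RingHom.ker φA = IA := by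
    rw [hkerA, Ideal.map_map, ← IsScalarTower.algebraMap_eq R Q A]
  let e₁ : (A ⧸ IA) ≃ₐ[R] A₀ :=
    (Ideal.quotientEquivAlgOfEq R hkA.symm).trans (Ideal.quotientKerAlgEquivOfSurjective hφA)
  exact ⟨AlgEquiv.ofRingEquiv (f := e₁.toRingEquiv) fun r => by
    obtain ⟨r, rfl⟩ := Ideal.Quotient.mk_surjective r
    exact e₁.commutes r⟩

end Groth.Agent.SmoothLiftH7
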