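import Groth.Agent.Lib.SmoothLiftH7.Away
import Groth.Agent.Lib.Hens.SmoothLift
import Mathlib.RingTheory.Etale.Basic
import Mathlib.RingTheory.Etale.StandardEtale
import Mathlib.LinearAlgebra.Matrix.Adjugate

/-!
# Approximate solutions of square systems give étale neighbourhoods
-/

set_option autoImplicit false
set_option linter.style.haveILetI false
universe u

open MvPolynomial
set_option maxHeartbeats 300000

namespace Groth.Agent.SmoothLiftH7

/-- Hensel's lemma for a pair `(A, K)`, étale locally. -/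
theorem exists_etale_zero_of_isUnit_jacDet {A : Type u} [CommRing A] (K : Ideal A) {N : ℕ}
    (F : Fin N → MvPolynomial (Fin N) A) (a : Fin N → A) (hF : ∀ k, eval a (F k) ∈ K)
    (hJ : IsUnit (Ideal.Quotient.mk K (eval a (Hens.jacDet F)))) :
    ∃ (C : Type u) (_ : CommRing C) (_ : Algebra A C), Algebra.Etale A C ∧
      ∃ φ : C →ₐ[A] A ⧸ K, Function.Surjective φ ∧ RingHom.ker φ = K.map (algebraMap A C) ∧
      ∃ x : Fin N → C, (∀ k, aeval x (F k) = 0) ∧
        ∀ k, x k - algebraMap A C (a k) ∈ K.map (algebraMap A C) := by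
  classical
  let R₁ := Ideal.span (Set.range F)
  let T := MvPolynomial (Fin N) A ⧸ R₁
  let ev : MvPolynomial (Fin N) A →ₐ[A] A ⧸ K := aeval fun k => Ideal.Quotient.mk K (a k)
  have hev : ∀ p, ev p = Ideal.Quotient.mk K (eval a p) := fun p => by
    refine DFunLike.congr_fun (f := ev) (g := (Ideal.Quotient.mkₐ A K).comp (aeval a)) ?_ p
    exact MvPolynomial.algHom_ext fun k => by simp [ev]
  let φT : T →ₐ[A] A ⧸ K := Ideal.Quotient.liftₐ R₁ ev fun p hp => by
    refine (Ideal.span_le (I := RingHom.ker ev)).mpr ?_ hp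
    rintro _ ⟨k, rfl⟩
    show ev (F k) = 0
    rw [hev, Ideal.Quotient.eq_zero_iff_mem]
    exact hF k
  have hφT : Function.Surjective φT := fun z => by
    obtain ⟨b, rfl⟩ := Ideal.Quotient.mk_surjective z
    exact ⟨algebraMap A T b, φT.commutes b⟩
  let qT : MvPolynomial (Fin N) A →+* T := Ideal.Quotient.mk R₁
  let d : Fin N → MvPolynomial (Fin N) A := fun k => X k - MvPolynomial.C (a k)
  let D₀ : Ideal (MvPolynomial (Fin N) A) := Ideal.span (Set.range d)
  let K₀ : Ideal (MvPolynomial (Fin N) A) := K.map (algebraMap A (MvPolynomial (Fin N) A))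
  let D : Ideal T := D₀.map qT
  let KT : Ideal T := K.map (algebraMap A T)
  have hD₀ : ∀ p, p - MvPolynomial.C (eval a p) ∈ D₀ := fun p => by
    induction p using MvPolynomial.induction_on with
    | C r => simp
    | add p q hp hq =>
      rw [map_add, map_add, add_sub_add_comm]
      exact add_mem hp hq
    | mul_X p i hp =>
      rw [map_mul, eval_X, map_mul,
        show p * X i - MvPolynomial.C (eval a p) * MvPolynomial.C (a i) =
          (p - MvPolynomial.C (eval a p)) * X i + MvPolynomial.C (eval a p) * d i by simp only [d]; ring]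
      exact add_mem (Ideal.mul_mem_right _ _ hp) (Ideal.mul_mem_left _ _ (Ideal.subset_span ⟨i, rfl⟩))
  have hdD : ∀ k, qT (d k) ∈ D := fun k => Ideal.mem_map_of_mem _ (Ideal.subset_span ⟨k, rfl⟩)
  have hK₀ : K₀.map qT = KT := by
    show (K.map (algebraMap A (MvPolynomial (Fin N) A))).map (algebraMap (MvPolynomial (Fin N) A) T) = _
    rw [Ideal.map_map, ← IsScalarTower.algebraMap_eq]
  have hKTφ : KT ≤ RingHom.ker φT := Ideal.map_le_iff_le_comap.2 fun b hb => by
    rw [Ideal.mem_comap, RingHom.mem_ker, AlgHom.commutes, Ideal.Quotient.algebraMap_eq]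
    exact Ideal.Quotient.eq_zero_iff_mem.2 hb
  have hDφ : D ≤ RingHom.ker φT := by
    rw [Ideal.map_le_iff_le_comap, Ideal.span_le]
    rintro _ ⟨k, rfl⟩
    show ev (d k) = 0
    simp [ev, d]
  have hker : ∀ x, φT x = 0 → x ∈ D ⊔ KT := by
    intro x hx
    obtain ⟨p, rfl⟩ := Ideal.Quotient.mk_surjective x
    have h : eval a p ∈ K := Ideal.Quotient.eq_zero_iff_mem.1 ((hev p).symm.trans hx)
    rw [show Ideal.Quotient.mk R₁ p = qT (p - MvPolynomial.C (eval a p)) + algebraMap A T (eval a p) by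
      rw [map_sub, ← MvPolynomial.algebraMap_eq]; exact (sub_add_cancel _ _).symm]
    exact Submodule.add_mem_sup (Ideal.mem_map_of_mem _ (hD₀ p)) (Ideal.mem_map_of_mem _ h)
  have hDsq : D ≤ D * D ⊔ KT := by
    let J₀ : Ideal (MvPolynomial (Fin N) A) := D₀ * D₀ ⊔ K₀ ⊔ R₁
    let v : Fin N → MvPolynomial (Fin N) A ⧸ J₀ := fun k => Ideal.Quotient.mk J₀ (d k)
    let Ja : Matrix (Fin N) (Fin N) (MvPolynomial (Fin N) A ⧸ J₀) :=
      Matrix.of fun k l => algebraMap A _ (eval a (pderiv l (F k)))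
    have hJv : Matrix.mulVec Ja v = 0 := by
      funext k
      have h1 : aeval (fun l => X l - d l) (F k) - (F k - ∑ l, pderiv l (F k) * d l) ∈ D₀ * D₀ :=
        Hens.taylor_mem_sq D₀ d (fun l => Ideal.subset_span ⟨l, rfl⟩) (F k)
      have h2 : aeval (fun l => X l - d l) (F k) = MvPolynomial.C (eval a (F k)) := by
        refine DFunLike.congr_fun (f := aeval fun l => X l - d l)
          (g := (Algebra.ofId A (MvPolynomial (Fin N) A)).comp (aeval a)) ?_ (F k)
        exact MvPolynomial.algHom_ext fun l => by simp [d]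
      have h3 : ∑ l, MvPolynomial.C (eval a (pderiv l (F k))) * d l ∈ J₀ := by
        rw [show ∑ l, MvPolynomial.C (eval a (pderiv l (F k))) * d l =
          (aeval (fun l => X l - d l) (F k) - (F k - ∑ l, pderiv l (F k) * d l)) - MvPolynomial.C (eval a (F k))
            + F k - ∑ l, (pderiv l (F k) - MvPolynomial.C (eval a (pderiv l (F k)))) * d l by
          rw [h2]; simp only [sub_mul, Finset.sum_sub_distrib]; ring]
        refine sub_mem (add_mem (sub_mem ?_ ?_) ?_) (Ideal.sum_mem _ fun l _ => ?_)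
        · exact Ideal.mem_sup_left (Ideal.mem_sup_left h1)
        · exact Ideal.mem_sup_left (Ideal.mem_sup_right (Ideal.mem_map_of_mem _ (hF k)))
        · exact Ideal.mem_sup_right (Ideal.subset_span ⟨k, rfl⟩)
        · exact Ideal.mem_sup_left (Ideal.mem_sup_left
            (Ideal.mul_mem_mul (hD₀ _) (Ideal.subset_span ⟨l, rfl⟩)))
      have h4 := Ideal.Quotient.eq_zero_iff_mem.2 h3
      rw [map_sum] at h4
      show ∑ l, Ja k l * v l = 0
      refine Eq.trans ?_ h4
      exact Finset.sum_congr rfl fun l _ => by rw [map_mul]; rfl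
    have hdet : IsUnit Ja.det := by
      have e : Ja.det = algebraMap A _ (eval a (Hens.jacDet F)) := by
        rw [Hens.jacDet, RingHom.map_det, RingHom.map_det]
        rfl
      rw [e]
      let iK : (A ⧸ K) →+* MvPolynomial (Fin N) A ⧸ J₀ := Ideal.Quotient.lift K (algebraMap A _) fun r hr => by
        rw [IsScalarTower.algebraMap_apply A (MvPolynomial (Fin N) A), Ideal.Quotient.algebraMap_eq,
          Ideal.Quotient.eq_zero_iff_mem]
        exact Ideal.mem_sup_left (Ideal.mem_sup_right (Ideal.mem_map_of_mem _ hr))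
      exact (Ideal.Quotient.lift_mk K _ _ : iK _ = _) ▸ hJ.map iK
    have hv : v = 0 := by
      have h5 := congrArg (Matrix.mulVec Ja.adjugate) hJv
      rw [Matrix.mulVec_zero, Matrix.mulVec_mulVec, Matrix.adjugate_mul, Matrix.smul_mulVec, Matrix.one_mulVec] at h5
      exact (hdet.smul_eq_zero).1 h5
    have h6 : D₀ ≤ J₀ := by
      rw [Ideal.span_le]
      rintro _ ⟨k, rfl⟩
      exact Ideal.Quotient.eq_zero_iff_mem.1 (congrFun hv k)
    refine (Ideal.map_mono (f := qT) h6).trans ?_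
    rw [Ideal.map_sup, Ideal.map_sup, Ideal.map_mul, hK₀,
      Ideal.map_quotient_self, sup_bot_eq]
  obtain ⟨u₂, hu₂, hu₂D⟩ := exists_sub_one_mem_mul_mem D KT
    (Ideal.FG.map (Submodule.fg_span (Set.finite_range d) : D₀.FG) qT) hDsq
  have hφu₂ : φT u₂ = 1 := by
    have h := sup_le hDφ hKTφ hu₂
    rwa [RingHom.mem_ker, map_sub, map_one, sub_eq_zero] at h
  let Δ : T := Ideal.Quotient.mk R₁ (Hens.jacDet F)
  have hΔ : IsUnit (φT Δ) := by
    show IsUnit (ev (Hens.jacDet F))
    rw [hev]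
    exact hJ
  let C₀ := Localization.Away Δ
  haveI : Algebra.Etale A C₀ := Hens.etale_away_jacDet F
  obtain ⟨φ₀, hφ₀, hφ₀T, hker₀⟩ := exists_away_lift φT hφT (D ⊔ KT) (sup_le hDφ hKTφ) Δ hΔ
    (fun x hx => ⟨0, by simpa using hker x hx⟩)
  let a₀ : T →+* C₀ := algebraMap T C₀
  have hKmap : KT.map a₀ = K.map (algebraMap A C₀) := by
    rw [Ideal.map_map, ← IsScalarTower.algebraMap_eq A T C₀]
  obtain ⟨φ₁, hφ₁, hφ₁₀, hker₁⟩ := exists_away_lift φ₀ hφ₀ (K.map (algebraMap A C₀))
    (by rw [hker₀, ← hKmap]; exact Ideal.map_mono le_sup_right) (a₀ u₂)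
    (by rw [hφ₀T, hφu₂]; exact isUnit_one)
    (fun x hx => ⟨1, by
      rw [pow_one, ← hKmap]
      have hx' : x ∈ (D ⊔ KT).map a₀ := hker₀ ▸ RingHom.mem_ker.2 hx
      have h : Ideal.span {u₂} * (D ⊔ KT) ≤ KT :=
        Ideal.span_singleton_mul_le_iff.2 fun y hy => hu₂D y hy
      have := Ideal.map_mono (f := a₀) h
      rw [Ideal.map_mul, Ideal.map_span, Set.image_singleton] at this
      exact Ideal.span_singleton_mul_le_iff.1 this x hx'⟩)
  let C₁ := Localization.Away (a₀ u₂)
  haveI : Algebra.Etale C₀ C₁ := Algebra.Etale.of_isLocalizationAway (a₀ u₂)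
  haveI : Algebra.Etale A C₁ := Algebra.Etale.comp A C₀ C₁
  let a₁ : T →ₐ[A] C₁ := (IsScalarTower.toAlgHom A C₀ C₁).comp (IsScalarTower.toAlgHom A T C₀)
  let x : Fin N → C₁ := fun k => a₁ (qT (X k))
  have hK₁ : (K.map (algebraMap A C₀)).map (algebraMap C₀ C₁) = K.map (algebraMap A C₁) := by
    rw [Ideal.map_map, ← IsScalarTower.algebraMap_eq A C₀ C₁]
  have haev : ∀ p, aeval x p = a₁ (qT p) := fun p => by
    refine DFunLike.congr_fun (f := aeval x) (g := a₁.comp (Ideal.Quotient.mkₐ A R₁)) ?_ p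
    exact MvPolynomial.algHom_ext fun k => (aeval_X _ _).trans rfl
  refine ⟨C₁, inferInstance, inferInstance, inferInstance, φ₁, hφ₁, by rw [hker₁, hK₁], x, fun k => ?_, fun k => ?_⟩
  · rw [haev, show qT (F k) = 0 from Ideal.Quotient.eq_zero_iff_mem.2 (Ideal.subset_span ⟨k, rfl⟩), map_zero]
  · rw [← hK₁, ← hker₁, RingHom.mem_ker,
      show x k - algebraMap A C₁ (a k) = a₁ (qT (d k)) by
        simp only [d, map_sub, x]; congr 1]
    show φ₁ (algebraMap C₀ C₁ (a₀ (qT (d k)))) = 0
    rw [hφ₁₀, hφ₀T]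
    exact hDφ (hdD k)

end Groth.Agent.SmoothLiftH7
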